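import Cfsg.Agent.OddHalf.SL.Defs

/-!
# The doubled root groups are canonical (helper163, bb ODD 9501 (f1))

`Can t B Φ X V` : the doubled root groups `V` of the root groups `X`, with (K1). If `n` centralises `Q_r` and
`[n, t] ∈ X r` then `n ∈ V r` or `t n ∈ V r`. So every element of `C(t)` which permutes the root groups permutes the
doubled root groups.
-/

set_option autoImplicit false
set_option linter.unusedSectionVars false

namespace Cfsg.Agent.OddHalf.D7End.Canon

open Cfsg.Agent.OddHalf.SL.Defs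

variable {L : Type*} [AddCommGroup L] {G : Type*} [Group G]

/-- the doubled root groups, with (K1) -/
structure Can (t : G) (B : L → L → ℤ) (Φ : Set L) (X V : L → Subgroup G) : Prop where
  roots : Roots B Φ
  dbl : Dbl t B Φ X V
  tX : ∀ r ∈ Φ, t ∉ X r
  K1 : ∀ r ∈ Φ, ∀ c, c * t = t * c → (∀ a ∈ Φ, 1 ≤ B a r → ∀ x ∈ X a, c * x = x * c) →
    c ∈ X r ∨ t * c ∈ X r

namespace Can

variable {t : G} {B : L → L → ℤ} {Φ : Set L} {X V : L → Subgroup G} (D : Can t B Φ X V)

include D

theorem tt : t * t = 1 := D.dbl.tt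

theorem tinv : t⁻¹ = t := inv_eq_of_mul_eq_one_left D.tt

theorem inv_eq {r : L} (hr : r ∈ Φ) {v : G} (hv : v ∈ V r) : v⁻¹ = v :=
  inv_eq_of_mul_eq_one_left (D.dbl.sq r hr v hv)

theorem comm {r : L} (hr : r ∈ Φ) {v w : G} (hv : v ∈ V r) (hw : w ∈ V r) : v * w = w * v := by
  apply D.dbl.pos r hr r hr _ v hv w hw
  rw [D.roots.two r hr]; norm_num

/-- `V r` centralises `X a` for `(a, r) ≥ 0` -/
theorem VX {r a : L} (hr : r ∈ Φ) (ha : a ∈ Φ) (h : 0 ≤ B a r) {v x : G} (hv : v ∈ V r) (hx : x ∈ X a) :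
    v * x = x * v :=
  (D.dbl.pos a ha r hr h x (D.dbl.XW a ha hx) v hv).symm

/-- **(f1)** -/
theorem mem {r : L} (hr : r ∈ Φ) {n : G} (hn : ∀ a ∈ Φ, 1 ≤ B a r → ∀ x ∈ X a, n * x = x * n)
    (hb : n⁻¹ * (t * n * t) ∈ X r) : n ∈ V r ∨ t * n ∈ V r := by
  obtain ⟨w, hw, hwx⟩ := D.dbl.surj r hr _ hb
  -- `c = n w⁻¹` commutes with `t`
  set x := n⁻¹ * (t * n * t) with hx
  have e1 : t * n * t = n * x := by rw [hx]; group
  have e2 : t * w * t = w * x := by rw [← hwx]; group
  have hct : n * w⁻¹ * t = t * (n * w⁻¹) := by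
    have e3 : t * (n * w⁻¹) * t = n * w⁻¹ := by
      calc t * (n * w⁻¹) * t = t * n * (t * t) * w⁻¹ * t := by rw [D.tt]; group
        _ = (t * n * t) * (t * w⁻¹ * t) := by group
        _ = (t * n * t) * (t⁻¹ * w * t⁻¹)⁻¹ := by group
        _ = (t * n * t) * (t * w * t)⁻¹ := by rw [D.tinv]
        _ = n * x * (w * x)⁻¹ := by rw [e1, e2]
        _ = n * w⁻¹ := by group
    calc n * w⁻¹ * t = t * (n * w⁻¹) * t * t := by rw [e3]
      _ = t * (n * w⁻¹) * (t * t) := by group
      _ = t * (n * w⁻¹) := by rw [D.tt, mul_one]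
  have h1 := D.K1 r hr (n * w⁻¹) hct (by
    intro a ha h y hy
    have h2 := D.VX hr ha (by omega) hw hy
    have h3 : w⁻¹ * y = y * w⁻¹ := by
      rw [inv_mul_eq_iff_eq_mul, ← mul_assoc, h2, mul_inv_cancel_right]
    rw [mul_assoc, h3, ← mul_assoc, hn a ha h y hy, mul_assoc])
  rcases h1 with h1 | h1
  · left
    have h2 := (V r).mul_mem (D.dbl.XW r hr h1) hw
    rwa [inv_mul_cancel_right] at h2
  · right
    have h2 := (V r).mul_mem (D.dbl.XW r hr h1) hw
    rwa [← mul_assoc, inv_mul_cancel_right] at h2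

/-- an involution `t v`, `v ∈ V r`, has `v ∈ X r` -/
theorem mem_X {r : L} (hr : r ∈ Φ) {v : G} (hv : v ∈ V r) (h : t * v * (t * v) = 1) : v ∈ X r := by
  rw [← D.dbl.cent r hr v hv]
  have h1 : t * v = (t * v)⁻¹ := eq_inv_of_mul_eq_one_left h
  rw [h1, mul_inv_rev, D.inv_eq hr hv, D.tinv]

/-- An element of `C(t)` mapping the root groups to root groups maps the doubled root groups to doubled root groups. -/
theorem conj {r s : L} (hr : r ∈ Φ) (hs : s ∈ Φ) {y : G} (hy : y * t = t * y)
    (hX : ∀ x ∈ X r, y * x * y⁻¹ ∈ X s)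
    (hQ : ∀ b ∈ Φ, 1 ≤ B b s → ∃ a ∈ Φ, 0 ≤ B a r ∧ ∀ x ∈ X b, y⁻¹ * x * y ∈ X a) {v : G} (hv : v ∈ V r) :
    y * v * y⁻¹ ∈ V s := by
  have hyi : y⁻¹ * t = t * y⁻¹ := by rw [inv_mul_eq_iff_eq_mul, ← mul_assoc, hy, mul_inv_cancel_right]
  have key : ∀ v ∈ V r, y * v * y⁻¹ ∈ V s ∨ t * (y * v * y⁻¹) ∈ V s := by
    intro v hv
    apply D.mem hs
    · intro b hb h x hx
      obtain ⟨a, ha, h0, h1⟩ := hQ b hb h
      have h2 := D.VX hr ha h0 hv (h1 x hx)
      calc y * v * y⁻¹ * x = y * (v * (y⁻¹ * x * y)) * y⁻¹ := by group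
        _ = y * (y⁻¹ * x * y * v) * y⁻¹ := by rw [h2]
        _ = x * (y * v * y⁻¹) := by group
    · have h1 := hX _ (D.dbl.brk r hr v hv)
      have e : (y * v * y⁻¹)⁻¹ * (t * (y * v * y⁻¹) * t) = y * (v⁻¹ * (t * v * t)) * y⁻¹ := by
        calc (y * v * y⁻¹)⁻¹ * (t * (y * v * y⁻¹) * t) = y * v⁻¹ * y⁻¹ * ((t * y) * v * (y⁻¹ * t)) := by group
          _ = y * v⁻¹ * y⁻¹ * ((y * t) * v * (t * y⁻¹)) := by rw [hyi, hy]
          _ = y * (v⁻¹ * (t * v * t)) * y⁻¹ := by group
      rw [e]; exact h1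
  rcases key v hv with h1 | h1
  · exact h1
  · -- `t y v y⁻¹ ∈ V s`: then `v ∈ X r`, hence `t ∈ X s`
    exfalso
    have hvv := D.dbl.sq r hr v hv
    have h2 : t * (y * v * y⁻¹) ∈ X s := by
      apply D.mem_X hs h1
      have e : t * (t * (y * v * y⁻¹)) = y * v * y⁻¹ := by rw [← mul_assoc, D.tt, one_mul]
      rw [e]
      calc y * v * y⁻¹ * (y * v * y⁻¹) = y * (v * v) * y⁻¹ := by group
        _ = 1 := by rw [hvv]; group
    have h3 := (D.dbl.cent s hs _ h1).2 h2
    -- `y v y⁻¹` commutes with `t`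
    have h4 : y * v * y⁻¹ * t = t * (y * v * y⁻¹) := by
      rw [← mul_assoc t t, D.tt, one_mul] at h3
      have h5 : t * (y * v * y⁻¹) * t = y * v * y⁻¹ := h3.symm
      calc y * v * y⁻¹ * t = t * (y * v * y⁻¹) * t * t := by rw [h5]
        _ = t * (y * v * y⁻¹) * (t * t) := by group
        _ = t * (y * v * y⁻¹) := by rw [D.tt, mul_one]
    have h5 : t * v = v * t := by
      have : t * v = y⁻¹ * (t * (y * v * y⁻¹)) * y := by
        calc t * v = (t * y⁻¹) * y * v * y⁻¹ * y := by group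
          _ = (y⁻¹ * t) * y * v * y⁻¹ * y := by rw [hyi]
          _ = y⁻¹ * (t * (y * v * y⁻¹)) * y := by group
      rw [this, ← h4]
      calc y⁻¹ * (y * v * y⁻¹ * t) * y = v * (y⁻¹ * t) * y := by group
        _ = v * (t * y⁻¹) * y := by rw [hyi]
        _ = v * t := by group
    have h6 := hX v ((D.dbl.cent r hr v hv).1 h5)
    have h7 := (X s).mul_mem h2 ((X s).inv_mem h6)
    rw [mul_inv_cancel_right] at h7
    exact D.tX s hs h7

theorem card_V [Finite G] {r : L} (hr : r ∈ Φ) : Nat.card (V r) = Nat.card (X r) * Nat.card (X r) := by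
  let f : V r →* G :=
    { toFun := fun w => (w : G)⁻¹ * (t * w * t)
      map_one' := by
        show (1 : G)⁻¹ * (t * 1 * t) = 1
        rw [mul_one, D.tt, inv_one, mul_one]
      map_mul' := fun a b => by
        show ((a : G) * b)⁻¹ * (t * (a * b) * t) = (a : G)⁻¹ * (t * a * t) * ((b : G)⁻¹ * (t * b * t))
        have hb1 := D.dbl.conj_t r hr _ b.2
        have ha1 := D.dbl.conj_t r hr _ a.2
        have e1 : (b : G)⁻¹ * ((a : G)⁻¹ * (t * a * t)) = (a : G)⁻¹ * (t * a * t) * (b : G)⁻¹ :=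
          D.comm hr ((V r).inv_mem b.2) ((V r).mul_mem ((V r).inv_mem a.2) ha1)
        calc ((a : G) * b)⁻¹ * (t * (a * b) * t) = (b : G)⁻¹ * (a : G)⁻¹ * (t * a * 1 * b * t) := by group
          _ = (b : G)⁻¹ * (a : G)⁻¹ * (t * a * (t * t) * b * t) := by rw [D.tt]
          _ = (b : G)⁻¹ * ((a : G)⁻¹ * (t * a * t)) * (t * b * t) := by group
          _ = (a : G)⁻¹ * (t * a * t) * (b : G)⁻¹ * (t * b * t) := by rw [e1]
          _ = _ := by group }
  have hrange : f.range = X r := by
    apply le_antisymm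
    · rintro _ ⟨w, rfl⟩
      exact D.dbl.brk r hr _ w.2
    · intro x hx
      obtain ⟨w, hw, e⟩ := D.dbl.surj r hr x hx
      exact ⟨⟨w, hw⟩, e⟩
  have hker : f.ker = (X r).subgroupOf (V r) := by
    ext w
    rw [MonoidHom.mem_ker, Subgroup.mem_subgroupOf, ← D.dbl.cent r hr _ w.2]
    show (w : G)⁻¹ * (t * w * t) = 1 ↔ t * (w : G) = w * t
    rw [inv_mul_eq_one]
    constructor
    · intro h
      calc t * (w : G) = t * w * t * t := by rw [mul_assoc (t * (w : G)), D.tt, mul_one]
        _ = w * t := by rw [← h]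
    · intro h
      rw [h, mul_assoc, D.tt, mul_one]
  have h5 := Subgroup.card_mul_index f.ker
  rw [Subgroup.index_ker, hrange, hker,
    Nat.card_congr (Subgroup.subgroupOfEquivOfLe (D.dbl.XW r hr)).toEquiv] at h5
  exact h5.symm

/-- **(f1)** `V r` is characterised by `t`, `X r`, `Q_r`. -/
theorem eq_V [Finite G] {r : L} (hr : r ∈ Φ) {P : Subgroup G} (h2 : ∀ v ∈ P, v * v = 1)
    (hn : ∀ v ∈ P, ∀ a ∈ Φ, 1 ≤ B a r → ∀ x ∈ X a, v * x = x * v)
    (hb : ∀ v ∈ P, v⁻¹ * (t * v * t) ∈ X r) (ht : t ∉ P) (hc : Nat.card P = Nat.card (V r)) : P = V r := by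
  have hcomm : ∀ a ∈ P, ∀ b ∈ P, a * b = b * a := by
    intro a ha b hb
    have e1 := h2 (a * b) (mul_mem ha hb)
    have e2 := h2 a ha
    have e3 := h2 b hb
    calc a * b = a * ((a * b) * (a * b)) * b := by rw [e1, mul_one]
      _ = (a * a) * (b * a) * (b * b) := by group
      _ = b * a := by rw [e2, e3, one_mul, mul_one]
  have key : ∀ v ∈ P, v ∈ V r ∨ t * v ∈ X r := by
    intro v hv
    rcases D.mem hr (hn v hv) (hb v hv) with h | h
    · exact Or.inl h
    · right
      apply D.mem_X hr h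
      have e : t * (t * v) = v := by rw [← mul_assoc, D.tt, one_mul]
      rw [e]
      exact h2 v hv
  by_cases hall : ∀ v ∈ P, v ∈ V r
  · exact Subgroup.eq_of_le_of_card_ge hall hc.ge
  · exfalso
    push Not at hall
    obtain ⟨v₀, hv₀, hv₀'⟩ := hall
    have h0 : t * v₀ ∈ X r := (key v₀ hv₀).resolve_left hv₀'
    -- every element of `P ⊓ V r` lies in `X r`
    have h3 : ∀ v ∈ P, v ∈ V r → v ∈ X r := by
      intro v hv hvV
      rw [← D.dbl.cent r hr v hvV]
      have h4 := hcomm v hv v₀ hv₀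
      have h5 := D.comm hr hvV (D.dbl.XW r hr h0)
      -- `v (t v₀) = (t v₀) v`
      have h6 : v * t * v₀ = t * v * v₀ := by
        calc v * t * v₀ = v * (t * v₀) := by group
          _ = t * v₀ * v := h5
          _ = t * (v₀ * v) := by group
          _ = t * (v * v₀) := by rw [h4]
          _ = t * v * v₀ := by group
      exact (mul_right_cancel h6).symm
    -- so `P ≤ X r ∪ t X r`, and `P` has the order of `V r`
    have h4 : ∀ v ∈ P, v ∈ X r ∨ t * v ∈ X r := fun v hv => (key v hv).imp (h3 v hv) id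
    have hcard := (D.card_V hr).symm
    -- `P ∩ X r` has index 2 in `P`
    have h5 : Nat.card P ≤ 2 * Nat.card (X r) := by
      classical
      have h6 : Function.Injective (fun v : P => (if h : (v : G) ∈ X r then ((0 : Fin 2), (⟨v, h⟩ : X r))
          else (1, ⟨t * v, (h4 v v.2).resolve_left h⟩) : Fin 2 × X r)) := by
        intro a b hab
        dsimp only at hab
        split_ifs at hab with ha hb hb
        · have h7 := congrArg (fun q => ((q.2 : X r) : G)) hab
          exact Subtype.ext h7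
        · exact absurd (congrArg Prod.fst hab) (by simp)
        · exact absurd (congrArg Prod.fst hab) (by simp)
        · have h7 := congrArg (fun q => ((q.2 : X r) : G)) hab
          exact Subtype.ext (mul_left_cancel h7)
      have h7 := Nat.card_le_card_of_injective _ h6
      rwa [Nat.card_prod, Nat.card_fin] at h7
    -- `|X| ≤ 2`
    have h6 : Nat.card (X r) ≤ 2 := by
      rw [hc, ← hcard] at h5
      exact Nat.le_of_mul_le_mul_right h5 Nat.card_pos
    -- `X r ≤ P`: `|P| = |X|²`, so `|P ∩ X| ≥ |X|² / 2`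
    have h7 : t * v₀ ≠ 1 := by
      intro h8
      apply ht
      have : t = v₀ := by
        have h9 := mul_eq_one_iff_eq_inv.1 h8
        rw [h9]; exact inv_eq_of_mul_eq_one_left (h2 v₀ hv₀)
      rw [this]; exact hv₀
    have h8 : Nat.card (X r) = 2 := by
      have h9 : 1 < Nat.card (X r) := by
        have : Nontrivial (X r) := ⟨⟨t * v₀, h0⟩, 1, fun e => h7 (congrArg Subtype.val e)⟩
        exact Finite.one_lt_card
      omega
    -- `P` has order four, so there is `v ∈ P`, `v ≠ 1, v₀`; `v` or `v v₀` lies in `X r`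
    have h9 : Nat.card P = 4 := by rw [hc, ← hcard, h8]
    obtain ⟨v, hv, hv1, hv2⟩ : ∃ v ∈ P, v ≠ 1 ∧ v ≠ v₀ := by
      by_contra hcon
      push Not at hcon
      have h10 : Nat.card P ≤ 2 := by
        have h11 : Function.Surjective (fun b : Bool => if b then (1 : P) else ⟨v₀, hv₀⟩) := by
          intro y
          by_cases hy : (y : G) = 1
          · exact ⟨true, Subtype.ext hy.symm⟩
          · exact ⟨false, Subtype.ext (hcon y y.2 hy).symm⟩
        have h12 := Nat.card_le_card_of_surjective _ h11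
        simpa using h12
      omega
    -- an element `x ≠ 1` of `X r ∩ P`
    have hx : ∃ x ∈ P, x ∈ X r ∧ x ≠ 1 := by
      rcases h4 v hv with h10 | h10
      · exact ⟨v, hv, h10, hv1⟩
      · refine ⟨v * v₀, mul_mem hv hv₀, ?_, ?_⟩
        · apply h3 _ (mul_mem hv hv₀)
          have h11 := (V r).mul_mem (D.dbl.XW r hr h10) (D.dbl.XW r hr h0)
          have h12 : t * v = v * t := by
            have h13 := (D.dbl.cent r hr _ (D.dbl.XW r hr h10)).2 h10
            rw [← mul_assoc, D.tt, one_mul] at h13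
            calc t * v = t * v * (t * t) := by rw [D.tt, mul_one]
              _ = t * v * t * t := by group
              _ = v * t := by rw [← h13]
          have e : t * v * (t * v₀) = v * v₀ := by
            rw [h12]
            calc v * t * (t * v₀) = v * (t * t) * v₀ := by group
              _ = v * v₀ := by rw [D.tt, mul_one]
          rwa [e] at h11
        · intro h11
          apply hv2
          have h12 := mul_eq_one_iff_eq_inv.1 h11
          rw [h12]; exact inv_eq_of_mul_eq_one_left (h2 v₀ hv₀)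
    obtain ⟨x, hxP, hxX, hx1⟩ := hx
    -- `X r = {1, x} = {1, t v₀}`
    have h10 : x = t * v₀ := by
      by_contra hne
      have h11 : Function.Injective (fun i : Fin 3 => (![(1 : X r), ⟨x, hxX⟩, ⟨t * v₀, h0⟩] i)) := by
        intro i j hij
        fin_cases i <;> fin_cases j
        · rfl
        · exact absurd (congrArg Subtype.val hij).symm hx1
        · exact absurd (congrArg Subtype.val hij).symm h7
        · exact absurd (congrArg Subtype.val hij) hx1
        · rfl
        · exact absurd (congrArg Subtype.val hij) hne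
        · exact absurd (congrArg Subtype.val hij) h7
        · exact absurd (congrArg Subtype.val hij).symm hne
        · rfl
      have h12 := Nat.card_le_card_of_injective _ h11
      rw [Nat.card_fin, h8] at h12
      omega
    apply ht
    have h11 : t = x * v₀⁻¹ := by rw [h10]; group
    rw [h11]
    exact mul_mem hxP (inv_mem hv₀)

end Can

end Cfsg.Agent.OddHalf.D7End.Canon
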