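import Cfsg.Agent.StdL3.OneParity
import Cfsg.Agent.OddHalf.TFormula

/-!
# The end of the outer part, case A (helper163, bb ODD 9501)

`t` an involution of `G`, `K ≤ C(t)` simple, containing all perfect subgroups of `C(t)`, `C_{C(t)}(K) = ⟨t⟩`. `K1` is a
perfect group commuting with `K2 = t K1 t`, and `K = {k k^t}`. `W ≤ K1 K2` is the doubled root group of a subgroup `X` of
`K`, characterised by `t, K, X`. Then the stabiliser `N` of the pair `{K1, K2}` has the property: every conjugate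
`u = t^g ∈ N` swapping `K1` and `K2` has `g ∈ N`. So the transfer of the sign `N → {±1}` at `t` is `-1`.
-/

set_option autoImplicit false
set_option linter.unusedSectionVars false

namespace Cfsg.Agent.OddHalf.D7End.CaseA

open Subgroup MulAction
open scoped commutatorElement

variable {G : Type*} [Group G]

/-- the conjugate `g H g⁻¹` -/
def cj (g : G) (H : Subgroup G) : Subgroup G := H.map (MulAut.conj g).toMonoidHom

theorem mem_cj {g : G} {H : Subgroup G} {x : G} : x ∈ cj g H ↔ g⁻¹ * x * g ∈ H := by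
  constructor
  · rintro ⟨y, hy, rfl⟩
    show g⁻¹ * (g * y * g⁻¹) * g ∈ H
    have : g⁻¹ * (g * y * g⁻¹) * g = y := by group
    rwa [this]
  · intro h
    refine ⟨_, h, ?_⟩
    show g * (g⁻¹ * x * g) * g⁻¹ = x
    group

theorem cj_mem {g : G} {H : Subgroup G} {x : G} (hx : x ∈ H) : g * x * g⁻¹ ∈ cj g H := ⟨x, hx, rfl⟩

theorem cj_mul (g h : G) (H : Subgroup G) : cj (g * h) H = cj g (cj h H) := by
  ext x
  rw [mem_cj, mem_cj, mem_cj]
  have : (g * h)⁻¹ * x * (g * h) = h⁻¹ * (g⁻¹ * x * g) * h := by group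
  rw [this]

theorem cj_one (H : Subgroup G) : cj 1 H = H := by
  ext x; rw [mem_cj]; simp

theorem cj_inv_cj (g : G) (H : Subgroup G) : cj g⁻¹ (cj g H) = H := by
  rw [← cj_mul, inv_mul_cancel, cj_one]

theorem cj_cj_inv (g : G) (H : Subgroup G) : cj g (cj g⁻¹ H) = H := by
  rw [← cj_mul, mul_inv_cancel, cj_one]

theorem cj_mono {g : G} {H H' : Subgroup G} (h : H ≤ H') : cj g H ≤ cj g H' := map_mono h

theorem cj_injective (g : G) : Function.Injective (cj g) := fun H H' h => by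
  have := congrArg (cj g⁻¹) h
  rwa [cj_inv_cj, cj_inv_cj] at this

theorem card_cj (g : G) (H : Subgroup G) : Nat.card (cj g H) = Nat.card H :=
  (Nat.card_congr (H.equivMapOfInjective _ (MulAut.conj g).injective).toEquiv).symm

theorem cj_commutator (g : G) (H : Subgroup G) : ⁅cj g H, cj g H⁆ = cj g ⁅H, H⁆ := (map_commutator _ _ _).symm

/-- the data of case A -/
structure AData (t : G) (K K1 X W : Subgroup G) : Prop where
  tt : t * t = 1
  Kt : ∀ x ∈ K, x * t = t * x
  cK : ∀ c, c * t = t * c → (∀ x ∈ K, x * c = c * x) → c = 1 ∨ c = t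
  tK : t ∉ K
  simp : ∀ L ≤ K, (∀ k ∈ K, ∀ l ∈ L, k * l * k⁻¹ ∈ L) → L = ⊥ ∨ L = K
  perf : ∀ P : Subgroup G, ⁅P, P⁆ = P → (∀ x ∈ P, x * t = t * x) → P ≤ K
  K1p : ⁅K1, K1⁆ = K1
  K1n : K1 ≠ ⊥
  K12 : ∀ a ∈ K1, ∀ b ∈ K1, a * (t * b * t) = t * b * t * a
  K1K : ∀ x ∈ K, ∃ k ∈ K1, x = k * (t * k * t)
  XK : X ≤ K
  X1 : X ≠ ⊥
  Xsq : ∀ x ∈ X, x * x = 1
  WE : W ≤ K1 ⊔ cj t K1
  EW : ∀ H : Subgroup G, (∀ k ∈ K, ∀ w ∈ W, k * w * k⁻¹ ∈ H) → K1 ≤ H
  cardW : Nat.card W = Nat.card X * Nat.card X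
  can : ∀ V : Subgroup G, (∀ v ∈ V, v * v = 1) →
    (∀ v ∈ V, ∀ k ∈ K, (∀ x ∈ X, k * x = x * k) → k * v = v * k) →
    (∀ v ∈ V, v⁻¹ * (t * v * t) ∈ X) → t ∉ V → Nat.card V = Nat.card W → V = W

/-- the homomorphism `k ↦ k · u k u⁻¹` -/
def phi (u : G) (K1 : Subgroup G) (h : ∀ a ∈ K1, ∀ b ∈ K1, a * (u * b * u⁻¹) = u * b * u⁻¹ * a) : K1 →* G where
  toFun k := k * (u * k * u⁻¹)
  map_one' := by simp
  map_mul' a b := by
    show (a : G) * b * (u * (a * b) * u⁻¹) = a * (u * a * u⁻¹) * (b * (u * b * u⁻¹))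
    calc (a : G) * b * (u * (a * b) * u⁻¹) = a * (b * (u * a * u⁻¹)) * (u * b * u⁻¹) := by group
      _ = a * ((u * a * u⁻¹) * b) * (u * b * u⁻¹) := by rw [h b b.2 a a.2]
      _ = a * (u * a * u⁻¹) * (b * (u * b * u⁻¹)) := by group

theorem phi_apply {u : G} {K1 : Subgroup G} {h : ∀ a ∈ K1, ∀ b ∈ K1, a * (u * b * u⁻¹) = u * b * u⁻¹ * a} (k : K1) :
    phi u K1 h k = k * (u * k * u⁻¹) := rfl

/-- An element of odd order with trivial square is trivial. -/
theorem eq_one_of_sq {Z : Subgroup G} (hodd : Odd (Nat.card Z)) {z : G} (hz : z ∈ Z) (h2 : z * z = 1) : z = 1 := by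
  obtain ⟨m, hm⟩ := hodd
  have h1 : z ^ Nat.card Z = 1 := by
    have := pow_card_eq_one' (x := (⟨z, hz⟩ : Z))
    exact congrArg Subtype.val this
  rw [hm, pow_succ, pow_mul, pow_two, h2, one_pow, one_mul] at h1
  exact h1

namespace AData

variable {t : G} {K K1 X W : Subgroup G} (D : AData t K K1 X W)

include D

theorem tinv : t⁻¹ = t := inv_eq_of_mul_eq_one_left D.tt

theorem cj_tt (H : Subgroup G) : cj t (cj t H) = H := by rw [← cj_mul, D.tt, cj_one]

theorem mem_cj_t {H : Subgroup G} {x : G} : x ∈ cj t H ↔ t * x * t ∈ H := by rw [mem_cj, D.tinv]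

/-- `[K1, K2] = 1` -/
theorem comm {a b : G} (ha : a ∈ K1) (hb : b ∈ cj t K1) : a * b = b * a := by
  rw [D.mem_cj_t] at hb
  have h1 := D.K12 a ha _ hb
  have h2 : t * (t * b * t) * t = b := by
    calc t * (t * b * t) * t = t * t * b * (t * t) := by group
      _ = b := by rw [D.tt]; group
  rwa [h2] at h1

/-- `K1 ∩ K2` is central in `K1 K2` and inverted by `t` -/
theorem Z0_comm {z : G} (_ : z ∈ K1) (hz2 : z ∈ cj t K1) {a : G} (ha : a ∈ K1) : a * z = z * a := D.comm ha hz2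

theorem Z0_comm' {z : G} (hz1 : z ∈ K1) (_ : z ∈ cj t K1) {a : G} (ha : a ∈ cj t K1) : a * z = z * a :=
  (D.comm hz1 ha).symm

theorem phi_mem {k : G} (hk : k ∈ K1) : k * (t * k * t) ∈ K := by
  have h : ∀ a ∈ K1, ∀ b ∈ K1, a * (t * b * t⁻¹) = t * b * t⁻¹ * a := by rw [D.tinv]; exact D.K12
  have h1 : (phi t K1 h).range ≤ K := by
    apply D.perf
    · rw [MonoidHom.range_eq_map, ← map_commutator]
      congr 1
      have h2 := D.K1p
      apply map_injective K1.subtype_injective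
      rw [map_commutator, ← MonoidHom.range_eq_map, K1.range_subtype]
      exact h2
    · rintro _ ⟨k, rfl⟩
      rw [phi_apply, D.tinv]
      have h3 := D.K12 k k.2 k k.2
      calc (k : G) * (t * k * t) * t = k * t * k * (t * t) := by group
        _ = (t * t) * k * (t * k) := by rw [D.tt]; group
        _ = t * (t * k * t * k) := by group
        _ = t * (k * (t * k * t)) := by rw [← h3]
  apply h1
  refine ⟨⟨k, hk⟩, ?_⟩
  rw [phi_apply, D.tinv]

/-- a subgroup normalised by and centralising `K` is trivial -/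
theorem cent_K {x : G} (hx : x ∈ K) (hc : ∀ k ∈ K, k * x = x * k) : x = 1 := by
  rcases D.cK x (D.Kt x hx) hc with h | h
  · exact h
  · exact absurd (h ▸ hx) D.tK

/-- elements commuting with `K1` and `K2` commute with `K` -/
theorem comm_K {z : G} (h1 : ∀ a ∈ K1, a * z = z * a) (h2 : ∀ a ∈ cj t K1, a * z = z * a) :
    ∀ k ∈ K, k * z = z * k := by
  intro x hx
  obtain ⟨k, hk, rfl⟩ := D.K1K x hx
  have h3 : t * k * t ∈ cj t K1 := by
    rw [D.mem_cj_t]
    have : t * (t * k * t) * t = k := by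
      calc t * (t * k * t) * t = t * t * k * (t * t) := by group
        _ = k := by rw [D.tt]; group
    rwa [this]
  calc k * (t * k * t) * z = k * (t * k * t * z) := by group
    _ = k * (z * (t * k * t)) := by rw [h2 _ h3]
    _ = k * z * (t * k * t) := by group
    _ = z * k * (t * k * t) := by rw [h1 k hk]
    _ = z * (k * (t * k * t)) := by group

/-- `t` inverts `K1 ∩ K2` -/
theorem Z0_inv {z : G} (hz1 : z ∈ K1) (hz2 : z ∈ cj t K1) : z * (t * z * t) = 1 := by
  apply D.cent_K (D.phi_mem hz1)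
  apply D.comm_K
  · intro a ha
    have h2 : t * z * t ∈ K1 := by rw [← D.mem_cj_t]; exact hz2
    have h3 : t * z * t ∈ cj t K1 := by
      rw [D.mem_cj_t]
      have : t * (t * z * t) * t = z := by
        calc t * (t * z * t) * t = t * t * z * (t * t) := by group
          _ = z := by rw [D.tt]; group
      rwa [this]
    calc a * (z * (t * z * t)) = (a * z) * (t * z * t) := by group
      _ = z * (a * (t * z * t)) := by rw [D.Z0_comm hz1 hz2 ha]; group
      _ = z * ((t * z * t) * a) := by rw [D.Z0_comm h2 h3 ha]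
      _ = z * (t * z * t) * a := by group
  · intro a ha
    have h2 : t * z * t ∈ K1 := by rw [← D.mem_cj_t]; exact hz2
    have h3 : t * z * t ∈ cj t K1 := by
      rw [D.mem_cj_t]
      have : t * (t * z * t) * t = z := by
        calc t * (t * z * t) * t = t * t * z * (t * t) := by group
          _ = z := by rw [D.tt]; group
      rwa [this]
    calc a * (z * (t * z * t)) = (a * z) * (t * z * t) := by group
      _ = z * (a * (t * z * t)) := by rw [D.Z0_comm' hz1 hz2 ha]; group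
      _ = z * ((t * z * t) * a) := by rw [D.Z0_comm' h2 h3 ha]
      _ = z * (t * z * t) * a := by group

theorem ne : K1 ≠ cj t K1 := by
  intro h
  have h1 : ⁅K1, K1⁆ = ⊥ := by
    rw [commutator_eq_bot_iff_le_centralizer]
    intro a ha
    rw [mem_centralizer_iff]
    intro b hb
    rw [SetLike.mem_coe, h] at hb
    exact (D.comm ha hb).symm
  exact D.K1n (D.K1p.symm.trans h1)

/-- `K1 ∩ K2` has odd order -/
theorem odd_Z0 [Finite G] : Odd (Nat.card ↥(K1 ⊓ cj t K1)) := by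
  rw [← Nat.not_even_iff_odd, even_iff_two_dvd]
  intro h2
  have : Fact (Nat.Prime 2) := ⟨Nat.prime_two⟩
  obtain ⟨⟨z, hz⟩, ho⟩ := exists_prime_orderOf_dvd_card' 2 h2
  have hzz : z * z = 1 := by
    have h3 := pow_orderOf_eq_one (⟨z, hz⟩ : ↥(K1 ⊓ cj t K1))
    rw [ho] at h3
    have h4 := congrArg Subtype.val h3
    rw [← pow_two]; simpa using h4
  have hz1 : z ≠ 1 := by
    rintro rfl
    have : (⟨1, hz⟩ : ↥(K1 ⊓ cj t K1)) = 1 := rfl
    rw [this, orderOf_one] at ho
    omega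
  have h5 := D.Z0_inv hz.1 hz.2
  have h6 : z * t = t * z := by
    have h7 : t * z * t = z⁻¹ := eq_inv_of_mul_eq_one_right h5
    have h8 : z⁻¹ = z := inv_eq_of_mul_eq_one_left hzz
    rw [h8] at h7
    calc z * t = t * z * t * t := by rw [h7]
      _ = t * z * (t * t) := by group
      _ = t * z := by rw [D.tt, mul_one]
  rcases D.cK z h6 (D.comm_K (fun a ha => D.Z0_comm hz.1 hz.2 ha) (fun a ha => D.Z0_comm' hz.1 hz.2 ha)) with h | h
  · exact hz1 h
  · -- `t` centralises `K1`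
    apply D.ne
    ext a
    rw [D.mem_cj_t]
    subst h
    constructor
    · intro ha
      have h8 := D.Z0_comm hz.1 hz.2 ha
      have : z * a * z = a := by
        calc z * a * z = z * (a * z) := by group
          _ = z * (z * a) := by rw [h8]
          _ = (z * z) * a := by group
          _ = a := by rw [D.tt, one_mul]
      rwa [this]
    · intro ha
      have h8 := D.Z0_comm hz.1 hz.2 ha
      have : z * a * z = a := by
        have h9 : z * (z * a * z) * z = a := by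
          calc z * (z * a * z) * z = z * z * a * (z * z) := by group
            _ = a := by rw [D.tt]; group
        calc z * a * z = z * a * z * z * z := by
              rw [mul_assoc (z * a * z), D.tt, mul_one]
          _ = z * (z * a * z) * z := by rw [h8]
          _ = a := h9
      rwa [this] at ha

/-- quasisimplicity of `K1` -/
theorem K1_simple {L : Subgroup G} (hL : L ≤ K1) (hn : ∀ k ∈ K1, ∀ l ∈ L, k * l * k⁻¹ ∈ L) :
    L ≤ K1 ⊓ cj t K1 ∨ L = K1 := by
  have h : ∀ a ∈ K1, ∀ b ∈ K1, a * (t * b * t⁻¹) = t * b * t⁻¹ * a := by rw [D.tinv]; exact D.K12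
  set f := phi t K1 h with hf
  have hfa : ∀ k (hk : k ∈ K1), f ⟨k, hk⟩ = k * (t * k * t) := fun k hk => by rw [hf, phi_apply, D.tinv]
  have hfr : ∀ x ∈ K, ∃ k : K1, f k = x := by
    intro x hx
    obtain ⟨k, hk, rfl⟩ := D.K1K x hx
    exact ⟨⟨k, hk⟩, hfa k hk⟩
  have hker : ∀ k (hk : k ∈ K1), f ⟨k, hk⟩ = 1 → k ∈ K1 ⊓ cj t K1 := by
    intro k hk h1
    refine ⟨hk, ?_⟩
    show k ∈ cj t K1
    rw [D.mem_cj_t]
    rw [hfa] at h1
    have h2 : t * k * t = k⁻¹ := eq_inv_of_mul_eq_one_right h1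
    rw [h2]; exact inv_mem hk
  have hM := D.simp ((L.subgroupOf K1).map f) (by
      rintro _ ⟨k, -, rfl⟩
      rw [← Subtype.coe_eta k k.2, hfa]
      exact D.phi_mem k.2) (by
      intro x hx l hl
      obtain ⟨k, rfl⟩ := hfr x hx
      obtain ⟨l, hl, rfl⟩ := hl
      refine ⟨k * l * k⁻¹, ?_, by rw [map_mul, map_mul, map_inv]⟩
      rw [SetLike.mem_coe, mem_subgroupOf] at hl ⊢
      exact hn k k.2 l hl)
  rcases hM with hM | hM
  · left
    intro l hl
    apply hker l (hL hl)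
    have : f ⟨l, hL hl⟩ ∈ (L.subgroupOf K1).map f := ⟨⟨l, hL hl⟩, hl, rfl⟩
    rw [hM, mem_bot] at this
    exact this
  · right
    apply le_antisymm hL
    rw [← D.K1p, commutator_le]
    -- every element of `K1` is in `L Z0`
    have key : ∀ a ∈ K1, ∃ l ∈ L, ∃ z ∈ K1 ⊓ cj t K1, a = l * z := by
      intro a ha
      have h1 : f ⟨a, ha⟩ ∈ (L.subgroupOf K1).map f := by
        rw [hM, hfa]; exact D.phi_mem ha
      obtain ⟨l, hl, hla⟩ := h1
      refine ⟨l, hl, (l : G)⁻¹ * a, ?_, by group⟩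
      have h2 : f (l⁻¹ * ⟨a, ha⟩) = 1 := by rw [map_mul, map_inv, hla, inv_mul_cancel]
      exact hker _ (mul_mem (inv_mem l.2) ha) h2
    intro a ha b hb
    obtain ⟨l, hl, z, hz, rfl⟩ := key a ha
    obtain ⟨m, hm, y, hy, rfl⟩ := key b hb
    have hlK := hL hl
    have hmK := hL hm
    have e1 := D.Z0_comm hz.1 hz.2 hlK
    have e2 := D.Z0_comm hz.1 hz.2 hmK
    have e3 := D.Z0_comm hy.1 hy.2 hlK
    have e4 := D.Z0_comm hy.1 hy.2 hmK
    have e5 := D.Z0_comm hy.1 hy.2 hz.1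
    have : ⁅l * z, m * y⁆ = ⁅l, m⁆ := by
      have h1 : ⁅l * z, m * y⁆ = l * (z * (m * y) * z⁻¹) * l⁻¹ * (m * y)⁻¹ := by
        rw [commutatorElement_def]; group
      have h2 : z * (m * y) * z⁻¹ = m * y := by
        calc z * (m * y) * z⁻¹ = (z * m) * y * z⁻¹ := by group
          _ = m * (z * y) * z⁻¹ := by rw [← e2]; group
          _ = m * (y * z) * z⁻¹ := by rw [e5]
          _ = m * y := by group
      rw [h1, h2, commutatorElement_def]
      calc l * (m * y) * l⁻¹ * (m * y)⁻¹ = l * m * (y * l⁻¹) * y⁻¹ * m⁻¹ := by group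
        _ = l * m * (l⁻¹ * y) * y⁻¹ * m⁻¹ := by
            have : y * l⁻¹ = l⁻¹ * y := by
              calc y * l⁻¹ = l⁻¹ * (l * y) * l⁻¹ := by group
                _ = l⁻¹ * (y * l) * l⁻¹ := by rw [e3]
                _ = l⁻¹ * y := by group
            rw [this]
        _ = l * m * l⁻¹ * m⁻¹ := by group
    rw [this]
    exact (commutator_le.1 (le_refl ⁅L, L⁆) l hl m hm |> fun h => (commutator_le.2 fun a ha b hb => by
      rw [commutatorElement_def]
      exact mul_mem (mul_mem (mul_mem ha hb) (inv_mem ha)) (inv_mem hb) : ⁅L, L⁆ ≤ L) h)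

theorem phi_odd [Finite G] : Nat.card K1 = Nat.card K * Nat.card ↥(K1 ⊓ cj t K1) := by
  have h : ∀ a ∈ K1, ∀ b ∈ K1, a * (t * b * t⁻¹) = t * b * t⁻¹ * a := by rw [D.tinv]; exact D.K12
  set f := phi t K1 h with hf
  have hfa : ∀ k (hk : k ∈ K1), f ⟨k, hk⟩ = k * (t * k * t) := fun k hk => by rw [hf, phi_apply, D.tinv]
  have hr : f.range = K := by
    ext x
    constructor
    · rintro ⟨k, rfl⟩
      rw [← Subtype.coe_eta k k.2, hfa]
      exact D.phi_mem k.2
    · intro hx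
      obtain ⟨k, hk, rfl⟩ := D.K1K x hx
      exact ⟨⟨k, hk⟩, hfa k hk⟩
  have hk : f.ker.map K1.subtype = K1 ⊓ cj t K1 := by
    ext z
    constructor
    · rintro ⟨k, hk, rfl⟩
      rw [SetLike.mem_coe, MonoidHom.mem_ker, ← Subtype.coe_eta k k.2, hfa] at hk
      refine ⟨k.2, ?_⟩
      show (k : G) ∈ cj t K1
      rw [D.mem_cj_t, eq_inv_of_mul_eq_one_right hk]
      exact inv_mem k.2
    · rintro ⟨hz1, hz2⟩
      refine ⟨⟨z, hz1⟩, ?_, rfl⟩
      rw [SetLike.mem_coe, MonoidHom.mem_ker, hfa]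
      exact D.Z0_inv hz1 hz2
  have h1 := f.ker.card_mul_index
  rw [Subgroup.index_ker, hr] at h1
  rw [← hk, Nat.card_congr (f.ker.equivMapOfInjective _ K1.subtype_injective).toEquiv.symm, ← h1, mul_comm]

section Swap

variable {g u : G} (hug : g⁻¹ * t * g = u) (hsw : cj u K1 = cj t K1)

include hug in
theorem uu : u * u = 1 := by
  rw [← hug]
  calc g⁻¹ * t * g * (g⁻¹ * t * g) = g⁻¹ * (t * t) * g := by group
    _ = 1 := by rw [D.tt]; group

include hug in
theorem uinv : u⁻¹ = u := inv_eq_of_mul_eq_one_left (D.uu hug)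

include hug hsw in
theorem cju : cj u (cj t K1) = K1 := by rw [← hsw, ← cj_mul, D.uu hug, cj_one]

include hsw in
theorem u_mem {b : G} (hb : b ∈ K1) : u * b * u⁻¹ ∈ cj t K1 := by rw [← hsw]; exact cj_mem hb

include hug hsw in
theorem u_mem' {b : G} (hb : b ∈ cj t K1) : u * b * u⁻¹ ∈ K1 := by
  have := cj_mem (g := u) hb
  rwa [D.cju hug hsw] at this

include hsw in
theorem hcomm : ∀ a ∈ K1, ∀ b ∈ K1, a * (u * b * u⁻¹) = u * b * u⁻¹ * a := fun _ ha _ hb =>
  D.comm ha (D.u_mem hsw hb)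

include hug in
theorem ker_le {k : G} (hk : k ∈ K1) (h1 : k * (u * k * u⁻¹) = 1) (hsw : cj u K1 = cj t K1) :
    k ∈ K1 ⊓ cj t K1 := by
  refine ⟨hk, ?_⟩
  have h2 : k = (u * k * u⁻¹)⁻¹ := eq_inv_of_mul_eq_one_left h1
  show k ∈ cj t K1
  rw [h2]
  exact inv_mem (D.u_mem hsw hk)

include hug in
theorem range_le (hsw : cj u K1 = cj t K1) : (phi u K1 (D.hcomm hsw)).range ≤ cj g⁻¹ K := by
  have h1 : cj g (phi u K1 (D.hcomm hsw)).range ≤ K := by
    apply D.perf
    · rw [cj_commutator]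
      congr 1
      rw [MonoidHom.range_eq_map, ← map_commutator]
      congr 1
      apply map_injective K1.subtype_injective
      rw [map_commutator, ← MonoidHom.range_eq_map, K1.range_subtype]
      exact D.K1p
    · rintro _ ⟨_, ⟨k, rfl⟩, rfl⟩
      show g * phi u K1 (D.hcomm hsw) k * g⁻¹ * t = t * (g * phi u K1 (D.hcomm hsw) k * g⁻¹)
      rw [phi_apply]
      have h3 := D.hcomm hsw k k.2 k k.2
      have h4 : (k : G) * (u * k * u⁻¹) * u = u * (k * (u * k * u⁻¹)) := by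
        rw [D.uinv hug] at h3 ⊢
        calc (k : G) * (u * k * u) * u = k * u * k * (u * u) := by group
          _ = (u * u) * k * (u * k) := by rw [D.uu hug]; group
          _ = u * (u * k * u * k) := by group
          _ = u * (k * (u * k * u)) := by rw [← h3]
      have h5 : t = g * u * g⁻¹ := by rw [← hug]; group
      calc g * (k * (u * k * u⁻¹)) * g⁻¹ * t = g * (k * (u * k * u⁻¹) * u) * g⁻¹ := by rw [h5]; group
        _ = g * (u * (k * (u * k * u⁻¹))) * g⁻¹ := by rw [h4]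
        _ = t * (g * (k * (u * k * u⁻¹)) * g⁻¹) := by rw [h5]; group
  have h2 := cj_mono (g := g⁻¹) h1
  rwa [cj_inv_cj] at h2

include hug in
theorem range_eq [Finite G] (hsw : cj u K1 = cj t K1) : (phi u K1 (D.hcomm hsw)).range = cj g⁻¹ K := by
  apply Subgroup.eq_of_le_of_card_ge (D.range_le hug hsw)
  rw [card_cj]
  have h1 := (phi u K1 (D.hcomm hsw)).ker.card_mul_index
  rw [Subgroup.index_ker] at h1
  have h2 := D.phi_odd
  have h3 : Nat.card (phi u K1 (D.hcomm hsw)).ker ≤ Nat.card ↥(K1 ⊓ cj t K1) := by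
    have h4 : (phi u K1 (D.hcomm hsw)).ker.map K1.subtype ≤ K1 ⊓ cj t K1 := by
      rintro _ ⟨k, hk, rfl⟩
      exact D.ker_le hug k.2 hk hsw
    rw [← Nat.card_congr ((phi u K1 (D.hcomm hsw)).ker.equivMapOfInjective _ K1.subtype_injective).toEquiv.symm]
    exact Subgroup.card_le_of_le h4
  rw [h2] at h1
  have hpos : 0 < Nat.card ↥(K1 ⊓ cj t K1) := Nat.card_pos
  by_contra hcon
  push Not at hcon
  have : Nat.card (phi u K1 (D.hcomm hsw)).ker * Nat.card (phi u K1 (D.hcomm hsw)).range <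
      Nat.card ↥(K1 ⊓ cj t K1) * Nat.card K :=
    Nat.mul_lt_mul_of_le_of_lt h3 hcon hpos
  rw [h1, mul_comm] at this
  exact lt_irrefl _ this

include hug in
/-- elements of `K1` with commuting images commute, if one of them is an involution -/
theorem comm_of_phi [Finite G] (hsw : cj u K1 = cj t K1) {a b : G} (ha : a ∈ K1) (hb : b ∈ K1) (haa : a * a = 1)
    (h : a * (u * a * u⁻¹) * (b * (u * b * u⁻¹)) = b * (u * b * u⁻¹) * (a * (u * a * u⁻¹))) : a * b = b * a := by
  set f := phi u K1 (D.hcomm hsw) with hf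
  have h1 : f (⟨a, ha⟩ * ⟨b, hb⟩ * (⟨a, ha⟩)⁻¹ * (⟨b, hb⟩)⁻¹) = 1 := by
    have h2 : f ⟨a, ha⟩ * f ⟨b, hb⟩ = f ⟨b, hb⟩ * f ⟨a, ha⟩ := h
    rw [map_mul, map_mul, map_mul, map_inv, map_inv, h2]
    group
  set c : G := a * b * a⁻¹ * b⁻¹ with hc
  have hcm : c ∈ K1 := mul_mem (mul_mem (mul_mem ha hb) (inv_mem ha)) (inv_mem hb)
  have hcz : c ∈ K1 ⊓ cj t K1 := D.ker_le hug hcm h1 hsw
  have ec := D.Z0_comm hcz.1 hcz.2 ha
  have hcb : a * b * a⁻¹ = c * b := by rw [hc]; group
  have ha' : a⁻¹ = a := inv_eq_of_mul_eq_one_left haa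
  have hcc : c * c = 1 := by
    have h3 : b = c * c * b := by
      calc b = (a * a) * b * (a * a)⁻¹ := by rw [haa]; group
        _ = a * (a * b * a⁻¹) * a⁻¹ := by group
        _ = a * (c * b) * a⁻¹ := by rw [hcb]
        _ = (a * c) * b * a⁻¹ := by group
        _ = c * (a * b * a⁻¹) := by rw [ec]; group
        _ = c * c * b := by rw [hcb]; group
    have := mul_right_cancel ((one_mul b).trans h3)
    exact this.symm
  have := eq_one_of_sq D.odd_Z0 hcz hcc
  rw [hc, mul_inv_eq_one, mul_inv_eq_iff_eq_mul] at this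
  exact this


include hug in
/-- the preimage of `X' = g⁻¹ X g` in the involutions of `K1` -/
theorem exists_Y [Finite G] (hsw : cj u K1 = cj t K1) : ∃ Y : Subgroup G, Y ≤ K1 ∧ (∀ y ∈ Y, y * y = 1) ∧
    (∀ y ∈ Y, y * (u * y * u⁻¹) ∈ cj g⁻¹ X) ∧ Nat.card Y = Nat.card X ∧
    (∀ y ∈ K1, y * y = 1 → y * (u * y * u⁻¹) ∈ cj g⁻¹ X → y ∈ Y) := by
  set f := phi u K1 (D.hcomm hsw) with hf
  have hXsq : ∀ x ∈ cj g⁻¹ X, x * x = 1 := by
    intro x hx
    rw [mem_cj, inv_inv] at hx
    have h1 := D.Xsq _ hx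
    calc x * x = g⁻¹ * (g * x * g⁻¹ * (g * x * g⁻¹)) * g := by group
      _ = 1 := by rw [h1]; group
  have hXab : ∀ x ∈ cj g⁻¹ X, ∀ y ∈ cj g⁻¹ X, x * y = y * x := by
    intro x hx y hy
    have h1 := hXsq _ (mul_mem hx hy)
    have h2 : (x * y)⁻¹ = x * y := inv_eq_of_mul_eq_one_left h1
    have h3 : x⁻¹ = x := inv_eq_of_mul_eq_one_left (hXsq _ hx)
    have h4 : y⁻¹ = y := inv_eq_of_mul_eq_one_left (hXsq _ hy)
    rw [← h2, mul_inv_rev, h3, h4]
  have hcom : ∀ a ∈ K1, ∀ b ∈ K1, a * a = 1 → a * (u * a * u⁻¹) ∈ cj g⁻¹ X → b * (u * b * u⁻¹) ∈ cj g⁻¹ X →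
      a * b = b * a := fun a ha b hb haa hax hbx => D.comm_of_phi hug hsw ha hb haa (hXab _ hax _ hbx)
  let Y : Subgroup G :=
    { carrier := {y | y ∈ K1 ∧ y * y = 1 ∧ y * (u * y * u⁻¹) ∈ cj g⁻¹ X}
      one_mem' := ⟨one_mem _, one_mul 1, by
        have : (1 : G) * (u * 1 * u⁻¹) = 1 := by group
        rw [this]; exact one_mem _⟩
      mul_mem' := by
        rintro a b ⟨ha, haa, hax⟩ ⟨hb, hbb, hbx⟩
        have e := hcom a ha b hb haa hax hbx
        refine ⟨mul_mem ha hb, ?_, ?_⟩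
        · calc a * b * (a * b) = a * (b * a) * b := by group
            _ = a * (a * b) * b := by rw [e]
            _ = (a * a) * (b * b) := by group
            _ = 1 := by rw [haa, hbb, one_mul]
        · have h1 : f (⟨a, ha⟩ * ⟨b, hb⟩) = f ⟨a, ha⟩ * f ⟨b, hb⟩ := map_mul _ _ _
          have h2 : a * b * (u * (a * b) * u⁻¹) = a * (u * a * u⁻¹) * (b * (u * b * u⁻¹)) := h1
          rw [h2]
          exact mul_mem hax hbx
      inv_mem' := by
        rintro a ⟨ha, haa, hax⟩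
        have h3 : a⁻¹ = a := inv_eq_of_mul_eq_one_left haa
        rw [h3]
        exact ⟨ha, haa, hax⟩ }
  refine ⟨Y, fun y hy => hy.1, fun y hy => hy.2.1, fun y hy => hy.2.2, ?_, fun y h1 h2 h3 => ⟨h1, h2, h3⟩⟩
  rw [← card_cj g⁻¹ X]
  apply Nat.card_congr
  refine Equiv.ofBijective (fun y => ⟨f ⟨y, y.2.1⟩, y.2.2.2⟩) ⟨?_, ?_⟩
  · rintro ⟨a, ha, haa, hax⟩ ⟨b, hb, hbb, hbx⟩ h
    have h1 : f ⟨a, ha⟩ = f ⟨b, hb⟩ := congrArg Subtype.val h
    apply Subtype.ext
    show a = b
    have h2 : f (⟨a, ha⟩⁻¹ * ⟨b, hb⟩) = 1 := by rw [map_mul, map_inv, h1, inv_mul_cancel]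
    have h3 : a⁻¹ * b ∈ K1 ⊓ cj t K1 := D.ker_le hug (mul_mem (inv_mem ha) hb) h2 hsw
    have e := hcom a ha b hb haa hax hbx
    have h4 : a⁻¹ = a := inv_eq_of_mul_eq_one_left haa
    have h5 : a⁻¹ * b * (a⁻¹ * b) = 1 := by
      rw [h4]
      calc a * b * (a * b) = a * (b * a) * b := by group
        _ = a * (a * b) * b := by rw [e]
        _ = (a * a) * (b * b) := by group
        _ = 1 := by rw [haa, hbb, one_mul]
    have h6 := eq_one_of_sq D.odd_Z0 h3 h5
    rw [inv_mul_eq_one] at h6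
    exact h6
  · rintro ⟨x, hx⟩
    have hxr : x ∈ f.range := by
      rw [hf, D.range_eq hug hsw]
      exact cj_mono D.XK hx
    obtain ⟨k, hk⟩ := hxr
    have hxx := hXsq x hx
    obtain ⟨m, hm⟩ := D.odd_Z0
    have h1 : (k : G) ^ 2 ∈ K1 ⊓ cj t K1 := by
      apply D.ker_le hug (pow_mem k.2 2) _ hsw
      have h2 : f (k ^ 2) = 1 := by rw [map_pow, hk, pow_two, hxx]
      exact h2
    have h2 : ((k : G) ^ 2) ^ (2 * m + 1) = 1 := by
      rw [← hm]
      have := pow_card_eq_one' (x := (⟨_, h1⟩ : ↥(K1 ⊓ cj t K1)))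
      exact congrArg Subtype.val this
    have h3 : f (k ^ (2 * m + 1)) = x := by
      rw [map_pow, hk, pow_succ, pow_mul, pow_two, hxx, one_pow, one_mul]
    have h4 : ((k ^ (2 * m + 1) : K1) : G) * ((k ^ (2 * m + 1) : K1) : G) = 1 := by
      rw [← pow_two]
      have : (((k ^ (2 * m + 1) : K1) : G)) ^ 2 = ((k : G) ^ 2) ^ (2 * m + 1) := by
        rw [SubgroupClass.coe_pow, ← pow_mul, ← pow_mul, mul_comm]
      rw [this, h2]
    refine ⟨⟨(k ^ (2 * m + 1) : K1), (k ^ (2 * m + 1)).2, h4, ?_⟩, Subtype.ext h3⟩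
    have h5 : ((k ^ (2 * m + 1) : K1) : G) * (u * ((k ^ (2 * m + 1) : K1) : G) * u⁻¹) = x := h3
    rw [h5]
    exact hx

include hug in
/-- the doubled group of `X' = g⁻¹ X g` -/
theorem cj_W_le [Finite G] (hsw : cj u K1 = cj t K1) : cj g⁻¹ W ≤ K1 ⊔ cj t K1 := by
  obtain ⟨Y, hYK, hYsq, hYX, hYc, hYm⟩ := D.exists_Y hug hsw
  have hu := D.uu hug
  have hui := D.uinv hug
  have hYinv : ∀ y ∈ Y, y⁻¹ = y := fun y hy => inv_eq_of_mul_eq_one_left (hYsq y hy)
  have hYab : ∀ a ∈ Y, ∀ b ∈ Y, a * b = b * a := by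
    intro a ha b hb
    have h2 : (a * b)⁻¹ = a * b := hYinv _ (mul_mem ha hb)
    rw [← h2, mul_inv_rev, hYinv a ha, hYinv b hb]
  -- the homomorphism `Y × Y → G`
  let f : Y × Y →* G :=
    { toFun := fun p => p.1 * (u * p.2 * u⁻¹)
      map_one' := by simp
      map_mul' := by
        rintro ⟨a, b⟩ ⟨c, d⟩
        show (a : G) * c * (u * (b * d) * u⁻¹) = a * (u * b * u⁻¹) * (c * (u * d * u⁻¹))
        calc (a : G) * c * (u * (b * d) * u⁻¹) = a * (c * (u * b * u⁻¹)) * (u * d * u⁻¹) := by group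
          _ = a * ((u * b * u⁻¹) * c) * (u * d * u⁻¹) := by
              rw [D.hcomm hsw c (hYK c.2) b (hYK b.2)]
          _ = a * (u * b * u⁻¹) * (c * (u * d * u⁻¹)) := by group }
  have hf : ∀ a b : Y, f (a, b) = a * (u * b * u⁻¹) := fun a b => rfl
  have hfinj : Function.Injective f := by
    rw [injective_iff_map_eq_one]
    rintro ⟨a, b⟩ h
    rw [hf] at h
    have h1 : (a : G) = (u * b * u⁻¹)⁻¹ := eq_inv_of_mul_eq_one_left h
    have h2 : (a : G) ∈ K1 ⊓ cj t K1 := ⟨hYK a.2, by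
      show (a : G) ∈ cj t K1
      rw [h1]; exact inv_mem (D.u_mem hsw (hYK b.2))⟩
    have h3 := eq_one_of_sq D.odd_Z0 h2 (hYsq a a.2)
    rw [h3, one_mul] at h
    have h4 : (b : G) = 1 := by
      calc (b : G) = u⁻¹ * (u * b * u⁻¹) * u := by group
        _ = 1 := by rw [h]; group
    exact Prod.ext (Subtype.ext h3) (Subtype.ext h4)
  set V : Subgroup G := f.range with hV
  have hVE : V ≤ K1 ⊔ cj t K1 := by
    rintro _ ⟨⟨a, b⟩, rfl⟩
    rw [hf]
    exact mul_mem (mem_sup_left (hYK a.2)) (mem_sup_right (D.u_mem hsw (hYK b.2)))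
  have hW : cj g V = W := by
    apply D.can
    · rintro _ ⟨_, ⟨⟨a, b⟩, rfl⟩, rfl⟩
      show g * f (a, b) * g⁻¹ * (g * f (a, b) * g⁻¹) = 1
      have h1 : f (a, b) * f (a, b) = 1 := by
        rw [← map_mul]
        have : ((a, b) : Y × Y) * (a, b) = 1 :=
          Prod.ext (Subtype.ext (hYsq a a.2)) (Subtype.ext (hYsq b b.2))
        rw [this, map_one]
      calc g * f (a, b) * g⁻¹ * (g * f (a, b) * g⁻¹) = g * (f (a, b) * f (a, b)) * g⁻¹ := by group
        _ = 1 := by rw [h1]; group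
    · rintro _ ⟨_, ⟨⟨a, b⟩, rfl⟩, rfl⟩ k hk hkX
      show k * (g * f (a, b) * g⁻¹) = g * f (a, b) * g⁻¹ * k
      -- `g⁻¹ k g = p p^u`
      have h1 : g⁻¹ * k * g ∈ (phi u K1 (D.hcomm hsw)).range := by
        rw [D.range_eq hug hsw, mem_cj, inv_inv]
        have : g * (g⁻¹ * k * g) * g⁻¹ = k := by group
        rwa [this]
      obtain ⟨p, hp⟩ := h1
      rw [phi_apply] at hp
      have hpY : ∀ y ∈ Y, y * p = p * y := by
        intro y hy
        apply D.comm_of_phi hug hsw (hYK hy) p.2 (hYsq y hy)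
        have h2 := hYX y hy
        rw [mem_cj, inv_inv] at h2
        have h3 := hkX _ h2
        have h4 : k = g * (p * (u * p * u⁻¹)) * g⁻¹ := by rw [hp]; group
        calc y * (u * y * u⁻¹) * (p * (u * p * u⁻¹))
            = g⁻¹ * (g * (y * (u * y * u⁻¹)) * g⁻¹ * k) * g := by rw [h4]; group
          _ = g⁻¹ * (k * (g * (y * (u * y * u⁻¹)) * g⁻¹)) * g := by rw [h3]
          _ = p * (u * p * u⁻¹) * (y * (u * y * u⁻¹)) := by rw [h4]; group
      have ha := hpY a a.2
      have hb := hpY b b.2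
      have e1 := D.hcomm hsw p p.2 b (hYK b.2)
      have e2 := D.hcomm hsw a (hYK a.2) p p.2
      have key : p * (u * p * u⁻¹) * (a * (u * b * u⁻¹)) = a * (u * b * u⁻¹) * (p * (u * p * u⁻¹)) := by
        calc (p : G) * (u * p * u⁻¹) * (a * (u * b * u⁻¹)) = p * ((u * p * u⁻¹) * a) * (u * b * u⁻¹) := by group
          _ = p * (a * (u * p * u⁻¹)) * (u * b * u⁻¹) := by rw [e2]
          _ = (p * a) * (u * (p * b) * u⁻¹) := by group
          _ = (a * p) * (u * (b * p) * u⁻¹) := by rw [ha, hb]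
          _ = a * (p * (u * b * u⁻¹)) * (u * p * u⁻¹) := by group
          _ = a * ((u * b * u⁻¹) * p) * (u * p * u⁻¹) := by rw [e1]
          _ = a * (u * b * u⁻¹) * (p * (u * p * u⁻¹)) := by group
      rw [hf]
      have h4 : k = g * (p * (u * p * u⁻¹)) * g⁻¹ := by rw [hp]; group
      calc k * (g * (a * (u * b * u⁻¹)) * g⁻¹)
          = g * (p * (u * p * u⁻¹) * (a * (u * b * u⁻¹))) * g⁻¹ := by rw [h4]; group
        _ = g * (a * (u * b * u⁻¹) * (p * (u * p * u⁻¹))) * g⁻¹ := by rw [key]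
        _ = g * (a * (u * b * u⁻¹)) * g⁻¹ * k := by rw [h4]; group
    · rintro _ ⟨_, ⟨⟨a, b⟩, rfl⟩, rfl⟩
      show (g * f (a, b) * g⁻¹)⁻¹ * (t * (g * f (a, b) * g⁻¹) * t) ∈ X
      have h5 : t = g * u * g⁻¹ := by rw [← hug]; group
      have h6 : (g * f (a, b) * g⁻¹)⁻¹ * (t * (g * f (a, b) * g⁻¹) * t) =
          g * ((f (a, b))⁻¹ * (u * f (a, b) * u)) * g⁻¹ := by rw [h5]; group
      rw [h6]
      have h7 : (f (a, b))⁻¹ * (u * f (a, b) * u) = (a * b : Y) * (u * (a * b : Y) * u⁻¹) := by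
        rw [hf]
        have e1 := D.hcomm hsw a (hYK a.2) b (hYK b.2)
        have e3 := D.hcomm hsw b (hYK b.2) a (hYK a.2)
        have e4 := D.hcomm hsw b (hYK b.2) b (hYK b.2)
        have ia := hYinv a a.2
        have ib := hYinv b b.2
        have eab := hYab a a.2 b b.2
        rw [Subgroup.coe_mul]
        calc ((a : G) * (u * b * u⁻¹))⁻¹ * (u * (a * (u * b * u⁻¹)) * u)
            = u * (b : G)⁻¹ * u⁻¹ * (a : G)⁻¹ * (u * a * u⁻¹) * ((u * u) * b * (u⁻¹ * u)) := by group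
          _ = u * (b : G) * u⁻¹ * a * (u * a * u⁻¹) * b := by rw [ia, ib, hu]; group
          _ = (u * b * u⁻¹) * a * ((u * a * u⁻¹) * b) := by group
          _ = (a * (u * b * u⁻¹)) * (b * (u * a * u⁻¹)) := by rw [← e1, ← e3]
          _ = a * ((u * b * u⁻¹) * b) * (u * a * u⁻¹) := by group
          _ = a * (b * (u * b * u⁻¹)) * (u * a * u⁻¹) := by rw [e4]
          _ = a * b * (u * (b * a) * u⁻¹) := by group
          _ = a * b * (u * (a * b) * u⁻¹) := by rw [eab]
      rw [h7]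
      have h8 := hYX _ (a * b : Y).2
      rw [mem_cj, inv_inv] at h8
      exact h8
    · intro h
      rw [mem_cj, hug] at h
      obtain ⟨⟨a, b⟩, hab⟩ := h
      -- `u` centralises `Y`
      apply D.X1
      rw [eq_bot_iff]
      have hY1 : ∀ y ∈ Y, y = 1 := by
        intro y hy
        have h1 : u * y = y * u := by
          have h2 : f (a, b) * f (⟨y, hy⟩, 1) = f (⟨y, hy⟩, 1) * f (a, b) := by
            rw [← map_mul, ← map_mul]
            congr 1
            exact Prod.ext (Subtype.ext (hYab _ a.2 _ hy)) (by simp)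
          have h3 : f (⟨y, hy⟩, 1) = y := by rw [hf]; simp
          rw [hab, h3] at h2
          exact h2
        have h4 : y ∈ K1 ⊓ cj t K1 := by
          refine ⟨hYK hy, ?_⟩
          have h5 := D.u_mem hsw (hYK hy)
          have h6 : u * y * u⁻¹ = y := by rw [h1]; group
          rw [h6] at h5
          exact h5
        exact eq_one_of_sq D.odd_Z0 h4 (hYsq y hy)
      have hY2 : Nat.card Y = 1 := by
        have : Y = ⊥ := by
          rw [eq_bot_iff]
          intro y hy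
          rw [mem_bot]
          exact hY1 y hy
        rw [this]; exact card_bot
      rw [hYc] at hY2
      rw [Subgroup.card_eq_one] at hY2
      rw [hY2]
    · rw [card_cj, hV, D.cardW, ← hYc, ← Nat.card_prod, ]
      exact (Nat.card_congr (MonoidHom.ofInjective hfinj).toEquiv).symm
  rw [← hW, cj_inv_cj]
  exact hVE


include hug in
/-- `E = K1 K2` is normalised by `g` -/
theorem cj_E [Finite G] (hsw : cj u K1 = cj t K1) : cj g (K1 ⊔ cj t K1) = K1 ⊔ cj t K1 := by
  have hsup : ∀ (a : G) (H H' : Subgroup G), cj a (H ⊔ H') = cj a H ⊔ cj a H' := fun a H H' => Subgroup.map_sup _ _ _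
  have h1 : K1 ≤ cj g (K1 ⊔ cj t K1) := by
    apply D.EW
    intro k hk w hw
    rw [mem_cj]
    have h2 : g⁻¹ * k * g ∈ K1 ⊔ cj t K1 := by
      have h3 : g⁻¹ * k * g ∈ (phi u K1 (D.hcomm hsw)).range := by
        rw [D.range_eq hug hsw, mem_cj, inv_inv]
        have : g * (g⁻¹ * k * g) * g⁻¹ = k := by group
        rwa [this]
      obtain ⟨p, hp⟩ := h3
      rw [← hp, phi_apply]
      exact mul_mem (mem_sup_left p.2) (mem_sup_right (D.u_mem hsw p.2))
    have h4 : g⁻¹ * w * g ∈ K1 ⊔ cj t K1 := by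
      apply D.cj_W_le hug hsw
      rw [mem_cj, inv_inv]
      have : g * (g⁻¹ * w * g) * g⁻¹ = w := by group
      rwa [this]
    have : g⁻¹ * (k * w * k⁻¹) * g = (g⁻¹ * k * g) * (g⁻¹ * w * g) * (g⁻¹ * k * g)⁻¹ := by group
    rw [this]
    exact mul_mem (mul_mem h2 h4) (inv_mem h2)
  have h2 : cj t K1 ≤ cj g (K1 ⊔ cj t K1) := by
    have h3 := cj_mono (g := t) h1
    rw [← cj_mul] at h3
    have h4 : t * g = g * u := by rw [← hug]; group
    rw [h4, cj_mul, hsup u, hsw, D.cju hug hsw, sup_comm (cj t K1) K1] at h3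
    exact h3
  apply (Subgroup.eq_of_le_of_card_ge (sup_le h1 h2) _).symm
  rw [card_cj]

/-- the commutator subgroup with a perfect group -/
theorem centralises_of_le {M : Subgroup G} (hM : ⁅M, M⁆ = M) (hME : M ≤ K1 ⊔ cj t K1)
    (hc : ∀ m ∈ M, ∀ k ∈ K1, m * k * m⁻¹ * k⁻¹ ∈ K1 ⊓ cj t K1) : ∀ m ∈ M, ∀ k ∈ K1, m * k = k * m := by
  have hZ : ∀ z ∈ K1 ⊓ cj t K1, ∀ e ∈ K1 ⊔ cj t K1, e * z = z * e := by
    intro z hz
    have h1 : K1 ⊔ cj t K1 ≤ centralizer ({z} : Set G) := by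
      apply sup_le
      · intro a ha
        rw [mem_centralizer_singleton_iff]
        exact D.Z0_comm hz.1 hz.2 ha
      · intro a ha
        rw [mem_centralizer_singleton_iff]
        exact D.Z0_comm' hz.1 hz.2 ha
    intro e he
    exact mem_centralizer_singleton_iff.1 (h1 he)
  have h1 : ⁅M, K1⁆ ≤ K1 ⊓ cj t K1 := by
    rw [commutator_le]
    intro m hm k hk
    exact hc m hm k hk
  have h2 : ⁅⁅M, K1⁆, M⁆ = ⊥ := by
    rw [commutator_eq_bot_iff_le_centralizer]
    intro z hz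
    rw [mem_centralizer_iff]
    intro m hm
    exact hZ z (h1 hz) m (hME hm)
  have h3 : ⁅⁅K1, M⁆, M⁆ = ⊥ := by rw [commutator_comm K1 M]; exact h2
  have h4 : ⁅⁅M, M⁆, K1⁆ = ⊥ := commutator_commutator_eq_bot_of_rotate h2 h3
  rw [hM, commutator_eq_bot_iff_le_centralizer] at h4
  intro m hm k hk
  exact (mem_centralizer_iff.1 (h4 hm) k hk).symm

include hug in
/-- **The claim.** -/
theorem mem_stab [Finite G] (hsw : cj u K1 = cj t K1) :
    (cj g K1 = K1 ∧ cj g (cj t K1) = cj t K1) ∨ (cj g K1 = cj t K1 ∧ cj g (cj t K1) = K1) := by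
  have hsup : ∀ (a : G) (H H' : Subgroup G), cj a (H ⊔ H') = cj a H ⊔ cj a H' := fun a H H' => Subgroup.map_sup _ _ _
  have hE := D.cj_E hug hsw
  have hcard1 : Nat.card (cj g K1) = Nat.card K1 := card_cj _ _
  have hcard2 : Nat.card (cj t K1) = Nat.card K1 := card_cj _ _
  -- `M = g K1 g⁻¹`, `M' = t M t = g K2 g⁻¹`
  have hM' : cj g (cj t K1) = cj t (cj g K1) := by
    rw [← hsw, ← cj_mul, ← cj_mul]
    congr 1
    rw [← hug]; group
  set M : Subgroup G := cj g K1 with hM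
  have hMp : ⁅M, M⁆ = M := by rw [hM, cj_commutator, D.K1p]
  have hMn : M ≠ ⊥ := by
    intro h
    have h1 : Nat.card M = 1 := by rw [h]; exact card_bot
    rw [hcard1, Subgroup.card_eq_one] at h1
    exact D.K1n h1
  rw [hsup, hM'] at hE
  have hME : M ≤ K1 ⊔ cj t K1 := by rw [← hE]; exact le_sup_left
  have hMM' : ∀ a ∈ M, ∀ b ∈ cj t M, a * b = b * a := by
    intro a ha b hb
    rw [← hM'] at hb
    rw [hM, mem_cj] at ha
    rw [mem_cj] at hb
    have h1 := D.comm ha hb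
    calc a * b = g * (g⁻¹ * a * g * (g⁻¹ * b * g)) * g⁻¹ := by group
      _ = g * (g⁻¹ * b * g * (g⁻¹ * a * g)) * g⁻¹ := by rw [h1]
      _ = b * a := by group
  -- `E` normalises `M`, `K1`, `K2`
  have hEM : ∀ e ∈ K1 ⊔ cj t K1, ∀ m ∈ M, e * m * e⁻¹ ∈ M := by
    have h1 : K1 ⊔ cj t K1 ≤ normalizer (M : Set G) := by
      rw [← hE]
      apply sup_le le_normalizer
      intro b hb
      rw [mem_normalizer_iff]
      intro a
      constructor
      · intro ha
        have : b * a * b⁻¹ = a := by rw [← hMM' a ha b hb]; group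
        rw [this]; exact ha
      · intro ha
        have h2 := hMM' _ ha b hb
        have : b * a * b⁻¹ = a := by
          have h3 : b * a = b * (b * a * b⁻¹) := by
            calc b * a = b * a * b⁻¹ * b := by group
              _ = b * (b * a * b⁻¹) := h2
          exact (mul_left_cancel h3).symm
        rw [this] at ha; exact ha
    intro e he m hm
    exact (mem_normalizer_iff.1 (h1 he) m).1 hm
  have hK1n : ∀ e ∈ K1 ⊔ cj t K1, ∀ k ∈ K1, e * k * e⁻¹ ∈ K1 := by
    have h1 : K1 ⊔ cj t K1 ≤ normalizer (K1 : Set G) := by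
      apply sup_le le_normalizer
      intro b hb
      rw [mem_normalizer_iff]
      intro a
      constructor
      · intro ha
        have : b * a * b⁻¹ = a := by rw [← D.comm ha hb]; group
        rw [this]; exact ha
      · intro ha
        have h2 := D.comm ha hb
        have : b * a * b⁻¹ = a := by
          have h3 : b * a = b * (b * a * b⁻¹) := by
            calc b * a = b * a * b⁻¹ * b := by group
              _ = b * (b * a * b⁻¹) := h2
          exact (mul_left_cancel h3).symm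
        rw [this] at ha; exact ha
    intro e he k hk
    exact (mem_normalizer_iff.1 (h1 he) k).1 hk
  have htE : cj t (K1 ⊔ cj t K1) = K1 ⊔ cj t K1 := by rw [hsup, D.cj_tt, sup_comm]
  -- the same for `t M t`
  have key : ∀ M₁ : Subgroup G, ⁅M₁, M₁⁆ = M₁ → M₁ ≤ K1 ⊔ cj t K1 → (∀ e ∈ K1 ⊔ cj t K1, ∀ m ∈ M₁, e * m * e⁻¹ ∈ M₁) →
      K1 ≤ M₁ ∨ ∀ m ∈ M₁, ∀ k ∈ K1, m * k = k * m := by
    intro M₁ h1 h2 h3
    rcases D.K1_simple (L := M₁ ⊓ K1) inf_le_right (fun k hk l hl =>
      ⟨h3 k (mem_sup_left hk) l hl.1, K1.mul_mem (K1.mul_mem hk hl.2) (K1.inv_mem hk)⟩) with h4 | h4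
    · right
      apply D.centralises_of_le h1 h2
      intro m hm k hk
      apply h4
      refine ⟨?_, ?_⟩
      · have : m * k * m⁻¹ * k⁻¹ = m * (k * m⁻¹ * k⁻¹) := by group
        show m * k * m⁻¹ * k⁻¹ ∈ M₁
        rw [this]
        exact mul_mem hm (h3 k (mem_sup_left hk) _ (inv_mem hm))
      · exact K1.mul_mem (hK1n m (h2 hm) k hk) (K1.inv_mem hk)
    · left
      rw [← h4]; exact inf_le_left
  have htM : ∀ e ∈ K1 ⊔ cj t K1, ∀ m ∈ cj t M, e * m * e⁻¹ ∈ cj t M := by
    intro e he m hm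
    rw [D.mem_cj_t] at hm ⊢
    have h1 : t * e * t ∈ K1 ⊔ cj t K1 := by
      rw [← D.mem_cj_t, htE]; exact he
    have h2 := hEM _ h1 _ hm
    have : t * (e * m * e⁻¹) * t = t * e * t * (t * m * t) * (t * e * t)⁻¹ := by
      have hti := D.tinv
      calc t * (e * m * e⁻¹) * t = t * e * m * e⁻¹ * t⁻¹ := by rw [hti]; group
        _ = t * e * (t * t) * m * (t * t) * e⁻¹ * t⁻¹ := by rw [D.tt]; group
        _ = t * e * t * (t * m * t) * (t * e⁻¹ * t⁻¹) := by group
        _ = t * e * t * (t * m * t) * (t * e * t)⁻¹ := by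
            congr 1
            rw [mul_inv_rev, mul_inv_rev, hti]; group
    rw [this]; exact h2
  have hcase : K1 ≤ M ∨ K1 ≤ cj t M := by
    rcases key M hMp hME hEM with h1 | h1
    · exact Or.inl h1
    · rcases key (cj t M) (by rw [cj_commutator, hMp]) (by rw [← htE]; exact cj_mono hME) htM with h2 | h2
      · exact Or.inr h2
      · -- `M` is central in `E`
        exfalso
        apply hMn
        rw [← hMp, commutator_eq_bot_iff_le_centralizer]
        have h3 : K1 ⊔ cj t K1 ≤ centralizer (M : Set G) := by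
          apply sup_le
          · intro k hk
            rw [mem_centralizer_iff]
            intro m hm
            exact h1 m hm k hk
          · intro k hk
            rw [mem_centralizer_iff]
            intro m hm
            rw [D.mem_cj_t] at hk
            have h4 := h2 (t * m * t) (by rw [D.mem_cj_t]; have : t * (t * m * t) * t = m := by
                                            calc t * (t * m * t) * t = t * t * m * (t * t) := by group
                                              _ = m := by rw [D.tt]; group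
                                          rw [this]; exact hm) _ hk
            calc m * k = t * t * m * (t * t) * k * (t * t) := by rw [D.tt]; group
              _ = t * (t * m * t * (t * k * t)) * t := by group
              _ = t * (t * k * t * (t * m * t)) * t := by rw [h4]
              _ = (t * t) * k * (t * t) * m * (t * t) := by group
              _ = k * m := by rw [D.tt]; group
        exact hME.trans h3
  rcases hcase with h1 | h1
  · left
    have h2 : K1 = M := Subgroup.eq_of_le_of_card_ge h1 hcard1.le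
    exact ⟨h2.symm, by rw [hM', ← h2]⟩
  · right
    have h2 : K1 = cj t M := Subgroup.eq_of_le_of_card_ge h1 (by rw [card_cj]; exact hcard1.le)
    have h3 : M = cj t K1 := by rw [h2, D.cj_tt]
    exact ⟨h3, by rw [hM', ← h2]⟩

end Swap

end AData

/-- the stabiliser of the pair `{K1, K2}` -/
def stab (t : G) (K1 : Subgroup G) : Subgroup G where
  carrier := {x | (cj x K1 = K1 ∧ cj x (cj t K1) = cj t K1) ∨ (cj x K1 = cj t K1 ∧ cj x (cj t K1) = K1)}
  one_mem' := Or.inl ⟨cj_one _, cj_one _⟩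
  mul_mem' := by
    rintro a b (⟨h1, h2⟩ | ⟨h1, h2⟩) (⟨h3, h4⟩ | ⟨h3, h4⟩)
    · exact Or.inl ⟨by rw [cj_mul, h3, h1], by rw [cj_mul, h4, h2]⟩
    · exact Or.inr ⟨by rw [cj_mul, h3, h2], by rw [cj_mul, h4, h1]⟩
    · exact Or.inr ⟨by rw [cj_mul, h3, h1], by rw [cj_mul, h4, h2]⟩
    · exact Or.inl ⟨by rw [cj_mul, h3, h2], by rw [cj_mul, h4, h1]⟩
  inv_mem' := by
    rintro a (⟨h1, h2⟩ | ⟨h1, h2⟩)
    · exact Or.inl ⟨by nth_rw 1 [← h1]; rw [cj_inv_cj], by nth_rw 1 [← h2]; rw [cj_inv_cj]⟩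
    · exact Or.inr ⟨by nth_rw 1 [← h2]; rw [cj_inv_cj], by nth_rw 1 [← h1]; rw [cj_inv_cj]⟩

theorem mem_stab_iff {t : G} {K1 : Subgroup G} {x : G} : x ∈ stab t K1 ↔
    (cj x K1 = K1 ∧ cj x (cj t K1) = cj t K1) ∨ (cj x K1 = cj t K1 ∧ cj x (cj t K1) = K1) := Iff.rfl

open Classical in
/-- the sign of the action on the pair -/
noncomputable def sign (t : G) (K1 : Subgroup G) (hne : K1 ≠ cj t K1) : stab t K1 →* ℤˣ where
  toFun x := if cj (x : G) K1 = K1 then 1 else -1
  map_one' := if_pos (cj_one _)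
  map_mul' := by
    rintro ⟨a, ha⟩ ⟨b, hb⟩
    show (if cj (a * b) K1 = K1 then (1 : ℤˣ) else -1) = (if cj a K1 = K1 then 1 else -1) * (if cj b K1 = K1 then 1 else -1)
    have hn : ∀ x : G, cj x K1 = cj t K1 → ¬ cj x K1 = K1 := fun x h h' => hne (h'.symm.trans h)
    rcases ha with ⟨h1, h2⟩ | ⟨h1, h2⟩ <;> rcases hb with ⟨h3, h4⟩ | ⟨h3, h4⟩
    · have e : cj (a * b) K1 = K1 := by rw [cj_mul, h3, h1]
      rw [if_pos h1, if_pos h3, if_pos e, one_mul]
    · have e : cj (a * b) K1 = cj t K1 := by rw [cj_mul, h3, h2]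
      rw [if_pos h1, if_neg (hn _ h3), if_neg (hn _ e), one_mul]
    · have e : cj (a * b) K1 = cj t K1 := by rw [cj_mul, h3, h1]
      rw [if_neg (hn _ h1), if_pos h3, if_neg (hn _ e), mul_one]
    · have e : cj (a * b) K1 = K1 := by rw [cj_mul, h3, h2]
      rw [if_neg (hn _ h1), if_neg (hn _ h3), if_pos e]
      rfl

open Classical in
theorem sign_apply {t : G} {K1 : Subgroup G} (hne : K1 ≠ cj t K1) (x : stab t K1) :
    sign t K1 hne x = if cj (x : G) K1 = K1 then 1 else -1 := rfl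

namespace AData

variable {t : G} {K K1 X W : Subgroup G} (D : AData t K K1 X W)

include D

theorem t_mem : t ∈ stab t K1 := Or.inr ⟨rfl, D.cj_tt _⟩

theorem sign_t : sign t K1 D.ne ⟨t, D.t_mem⟩ = -1 := by
  classical
  rw [sign_apply, if_neg]
  exact D.ne.symm

/-- **Case A**: the transfer of the sign at `t` is `-1`. -/
theorem transfer_eq [Finite G] : MonoidHom.transfer (sign t K1 D.ne) t = -1 := by
  classical
  have := Fintype.ofFinite (G ⧸ stab t K1)
  obtain ⟨f, hf, hprod⟩ := StdL3.OneParity.transfer_eq_prod_fixed (stab t K1) (sign t K1 D.ne) t D.tt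
  rw [hprod]
  have hmem : ∀ g : G, t • (g : G ⧸ stab t K1) = g → g⁻¹ * t * g ∈ stab t K1 := by
    intro g hq
    rw [MulAction.Quotient.smul_mk, smul_eq_mul, QuotientGroup.eq] at hq
    have h2 := (stab t K1).inv_mem hq
    have e2 : ((t * g)⁻¹ * g)⁻¹ = g⁻¹ * t * g := by group
    rw [e2] at h2; exact h2
  have h1 : ((1 : G) : G ⧸ stab t K1) ∈ Finset.univ.filter (fun q : G ⧸ stab t K1 => t • q = q) := by
    rw [Finset.mem_filter]
    refine ⟨Finset.mem_univ _, ?_⟩
    rw [MulAction.Quotient.smul_mk, smul_eq_mul, QuotientGroup.eq]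
    have : (t * 1)⁻¹ * 1 = t⁻¹ := by group
    rw [this]; exact inv_mem D.t_mem
  rw [Finset.prod_eq_single ((1 : G) : G ⧸ stab t K1)]
  · have h2 : (1 : G)⁻¹ * t * 1 ∈ stab t K1 := by
      have : (1 : G)⁻¹ * t * 1 = t := by group
      rw [this]; exact D.t_mem
    rw [hf _ 1 rfl h2, ← D.sign_t]
    congr 1
    apply Subtype.ext
    show (1 : G)⁻¹ * t * 1 = t
    group
  · intro q hq hq1
    rw [Finset.mem_filter] at hq
    obtain ⟨g, rfl⟩ := QuotientGroup.mk_surjective q
    have h3 := hmem g hq.2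
    rw [hf _ g rfl h3, sign_apply]
    rw [if_pos]
    by_contra hcon
    apply hq1
    have hsw : cj (g⁻¹ * t * g) K1 = cj t K1 := by
      rcases h3 with h4 | h4
      · exact absurd h4.1 hcon
      · exact h4.1
    have h5 := D.mem_stab (g := g) rfl hsw
    rw [QuotientGroup.eq, mul_one]
    exact (stab t K1).inv_mem h5
  · intro h; exact absurd h1 h

theorem false_of_perfect [Finite G] (hG : commutator G = ⊤) : False := by
  have h1 := D.transfer_eq
  rw [TFormula.hom_eq_one hG] at h1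
  exact absurd h1 (by decide)

end AData

end Cfsg.Agent.OddHalf.D7End.CaseA

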