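import Cfsg.Agent.OddHalf.TFormula

/-!
# The end of the outer part, case B (helper163, bb ODD 9501)

`t` an involution of a perfect group `G`, `T` a Sylow 2-subgroup of `C(t)`, `S ≥ T` a 2-group with homomorphisms
`θ, δ : S → A` such that `θ t = ι` is an involution, `δ t = 1`, `θ x, δ x ∈ {1, ι}` for the involutions `x` of `S`, and
`θ x = ι`, `δ x = 1` only for the `S`-conjugates of `t`. `W ≤ S` is centralised by the kernel of `θ`, and not contained
in the centralizer of the root elements of a conjugate of `K = C(t)^∞`. Then `t ∈ G'` is impossible.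
-/

set_option autoImplicit false
set_option linter.unusedSectionVars false

namespace Cfsg.Agent.OddHalf.D7End.CaseB

open Subgroup MulAction

variable {G : Type*} [Group G]

/-- the data of case B -/
structure BData (t : G) (K T S W : Subgroup G) {A : Type*} [CommGroup A] (θ δ : S →* A) (ι : A)
    (root : Set G) : Prop where
  tt : t * t = 1
  pS : IsPGroup 2 S
  TS : T ≤ S
  tT : t ∈ T
  tc : ∀ x ∈ T, x * t = t * x
  /-- `T` is a Sylow subgroup of `C(t)` -/
  max : ∀ P : Subgroup G, IsPGroup 2 P → T ≤ P → (∀ x ∈ P, x * t = t * x) → P ≤ T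
  i1 : ι ≠ 1
  ii : ι * ι = 1
  θt : θ ⟨t, TS tT⟩ = ι
  δt : δ ⟨t, TS tT⟩ = 1
  valθ : ∀ x : S, x * x = 1 → θ x = 1 ∨ θ x = ι
  valδ : ∀ x : S, x * x = 1 → δ x = 1 ∨ δ x = ι
  /-- the conjugates of `t` -/
  conj : ∀ x : S, x * x = 1 → θ x = ι → δ x = 1 → ∃ y ∈ S, y * t * y⁻¹ = x
  WS : W ≤ S
  Wc : ∀ x : S, θ x = 1 → ∀ w ∈ W, (x : G) * w = w * x
  Wδ : ∀ w (hw : w ∈ W), δ ⟨w, WS hw⟩ = 1
  /-- `K = C(t)^∞` -/
  tK : t ∉ K
  perf : ∀ P : Subgroup G, ⁅P, P⁆ = P → (∀ x ∈ P, x * t = t * x) → P ≤ K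
  Kt : ∀ x ∈ K, x * t = t * x
  θK : ∀ x (hx : x ∈ T), x ∈ K → θ ⟨x, TS hx⟩ = 1
  /-- the root elements of `K` in `T` -/
  rT : ∀ p ∈ root, p ∈ T
  rr : ∀ p ∈ root, p * p = 1
  rP : ∀ p ∈ root, ∃ P ≤ K, ⁅P, P⁆ = P ∧ p ∈ P ∧ ∀ x ∈ P, x * p = p * x
  /-- the centralizer in `T` of the root elements is small -/
  small : ∀ V ≤ T, (∀ p ∈ root, ∀ v ∈ V, p * v = v * p) → t ∉ V → Nat.card V ≠ Nat.card W

theorem isPGroup_map {P : Subgroup G} (hP : IsPGroup 2 P) (g : G) :
    IsPGroup 2 (P.map (MulAut.conj g).toMonoidHom) := hP.map _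

/-- a maximal 2-subgroup of `N` has odd index -/
theorem odd_relIndex [Finite G] {T N : Subgroup G} (hTN : T ≤ N) (hT : IsPGroup 2 T)
    (hmax : ∀ P : Subgroup G, IsPGroup 2 P → T ≤ P → P ≤ N → P ≤ T) : Odd (T.relIndex N) := by
  have hT' : IsPGroup 2 (T.subgroupOf N) := hT.comap_of_injective N.subtype N.subtype_injective
  obtain ⟨Q, hQ⟩ := hT'.exists_le_sylow
  have h1 : (Q : Subgroup N).map N.subtype ≤ T := by
    apply hmax _ (Q.isPGroup'.map _)
    · rw [← subgroupOf_map_subtype T N |>.trans (inf_of_le_left hTN)]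
      exact map_mono hQ
    · exact map_subtype_le _
  have h2 : (Q : Subgroup N) = T.subgroupOf N := by
    apply le_antisymm _ hQ
    intro x hx
    rw [mem_subgroupOf]
    exact h1 ⟨x, hx, rfl⟩
  have h3 : ¬ 2 ∣ (Q : Subgroup N).index := by
    have : Fact (Nat.Prime 2) := ⟨Nat.prime_two⟩
    exact Q.not_dvd_index
  rw [relIndex, ← h2]
  rw [← Nat.not_even_iff_odd, even_iff_two_dvd]
  exact h3

variable {t : G} {K T S W : Subgroup G} {A : Type*} [CommGroup A] {θ δ : S →* A} {ι : A} {root : Set G}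

namespace BData

variable (D : BData t K T S W θ δ ι root)

include D

theorem pT : IsPGroup 2 T := D.pS.to_le D.TS

theorem mem_T {x : G} (hx : x ∈ S) (hxt : x * t = t * x) : x ∈ T := by
  have h1 : T ⊔ (S ⊓ centralizer {t}) ≤ T := by
    have h2 : T ≤ S ⊓ centralizer ({t} : Set G) :=
      le_inf D.TS fun y hy => mem_centralizer_singleton_iff.2 (D.tc y hy)
    rw [sup_of_le_right h2]
    apply D.max _ _ h2
    · intro y hy
      exact mem_centralizer_singleton_iff.1 hy.2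
    · exact D.pS.to_le inf_le_left
  exact h1 (mem_sup_right ⟨hx, mem_centralizer_singleton_iff.2 hxt⟩)

theorem val (x : S) (hx : x * x = 1) : (θ x * δ x = 1) ∨ (θ x * δ x = ι ∧ θ x = ι ∧ δ x = 1) ∨
    (θ x * δ x = ι ∧ θ x = 1 ∧ δ x = ι) := by
  rcases D.valθ x hx with h1 | h1 <;> rcases D.valδ x hx with h2 | h2
  · exact Or.inl (by rw [h1, h2, one_mul])
  · exact Or.inr (Or.inr ⟨by rw [h1, h2, one_mul], h1, h2⟩)
  · exact Or.inr (Or.inl ⟨by rw [h1, h2, mul_one], h1, h2⟩)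
  · exact Or.inl (by rw [h1, h2, D.ii])

/-- conjugates of `t` lie in no perfect subgroup of their centralizer: `p ≁ t` for root elements `p` -/
theorem root_not_conj {p : G} (hp : p ∈ root) (g : G) : g * t * g⁻¹ ≠ p := by
  intro h
  obtain ⟨P, hPK, hPP, hpP, hc⟩ := D.rP p hp
  apply D.tK
  have h1 : P.map (MulAut.conj g⁻¹).toMonoidHom ≤ K := by
    apply D.perf
    · rw [← Subgroup.map_commutator, hPP]
    · rintro _ ⟨x, hx, rfl⟩
      have h2 := hc x hx
      rw [← h] at h2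
      show g⁻¹ * x * g⁻¹⁻¹ * t = t * (g⁻¹ * x * g⁻¹⁻¹)
      rw [inv_inv]
      calc g⁻¹ * x * g * t = g⁻¹ * (x * (g * t * g⁻¹)) * g := by group
        _ = g⁻¹ * (g * t * g⁻¹ * x) * g := by rw [h2]
        _ = t * (g⁻¹ * x * g) := by group
  apply h1
  refine ⟨p, hpP, ?_⟩
  show g⁻¹ * p * g⁻¹⁻¹ = t
  rw [← h]
  group

/-- **The claim**: the values `θ = 1`, `δ = ι` do not occur for extremal conjugates of `t`. -/
theorem claim [Finite G] (g : G) (hTg : ∀ x ∈ T, g⁻¹ * x * g ∈ S) (hθ : θ ⟨g⁻¹ * t * g, hTg t D.tT⟩ = 1)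
    (hδ : δ ⟨g⁻¹ * t * g, hTg t D.tT⟩ = ι) : False := by
  set u : G := g⁻¹ * t * g with hu
  have huS : u ∈ S := hTg t D.tT
  have huu : u * u = 1 := by
    calc u * u = g⁻¹ * (t * t) * g := by rw [hu]; group
      _ = 1 := by rw [D.tt]; group
  -- `C_S(u) = g⁻¹ T g`
  have hCS : ∀ x ∈ S, x * u = u * x → g * x * g⁻¹ ∈ T := by
    have h1 : (S ⊓ centralizer ({u} : Set G)).map (MulAut.conj g).toMonoidHom ≤ T := by
      apply D.max
      · exact (D.pS.to_le inf_le_left).map _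
      · intro x hx
        refine ⟨g⁻¹ * x * g, ⟨hTg x hx, mem_centralizer_singleton_iff.2 ?_⟩, ?_⟩
        · calc g⁻¹ * x * g * u = g⁻¹ * (x * t) * g := by rw [hu]; group
            _ = g⁻¹ * (t * x) * g := by rw [D.tc x hx]
            _ = u * (g⁻¹ * x * g) := by rw [hu]; group
        · show g * (g⁻¹ * x * g) * g⁻¹ = x
          group
      · rintro _ ⟨x, hx, rfl⟩
        have h2 := mem_centralizer_singleton_iff.1 hx.2
        show g * x * g⁻¹ * t = t * (g * x * g⁻¹)
        calc g * x * g⁻¹ * t = g * (x * u) * g⁻¹ := by rw [hu]; group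
          _ = g * (u * x) * g⁻¹ := by rw [h2]
          _ = t * (g * x * g⁻¹) := by rw [hu]; group
    intro x hx hxu
    exact h1 ⟨x, ⟨hx, mem_centralizer_singleton_iff.2 hxu⟩, rfl⟩
  -- `g W g⁻¹ ≤ T`
  have hW : W.map (MulAut.conj g).toMonoidHom ≤ T := by
    rintro _ ⟨w, hw, rfl⟩
    exact hCS w (D.WS hw) (D.Wc ⟨u, huS⟩ hθ w hw).symm
  have htW : t ∉ W.map (MulAut.conj g).toMonoidHom := by
    rintro ⟨w, hw, hwt⟩
    have h1 : w = u := by
      rw [hu, ← hwt]
      show w = g⁻¹ * (g * w * g⁻¹) * g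
      group
    have h2 := D.Wδ w hw
    have h3 : (⟨w, D.WS hw⟩ : S) = ⟨u, huS⟩ := Subtype.ext h1
    rw [h3, hδ] at h2
    exact D.i1 h2
  -- a root element moving `W`
  obtain ⟨p, hp, hpθ⟩ : ∃ p ∈ root, ∃ hpS : g⁻¹ * p * g ∈ S, θ ⟨g⁻¹ * p * g, hpS⟩ = ι := by
    by_contra hcon
    push Not at hcon
    apply D.small _ hW _ htW
    · exact (Nat.card_congr (W.equivMapOfInjective _ (MulAut.conj g).injective).toEquiv).symm
    · rintro p hp _ ⟨w, hw, rfl⟩
      have hpS := hTg p (D.rT p hp)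
      have h1 : θ ⟨g⁻¹ * p * g, hpS⟩ = 1 := by
        rcases D.valθ ⟨g⁻¹ * p * g, hpS⟩ (Subtype.ext (by
          show g⁻¹ * p * g * (g⁻¹ * p * g) = 1
          calc g⁻¹ * p * g * (g⁻¹ * p * g) = g⁻¹ * (p * p) * g := by group
            _ = 1 := by rw [D.rr p hp]; group)) with h | h
        · exact h
        · exact absurd h (hcon p hp hpS)
      have h2 := D.Wc _ h1 w hw
      have h2' : g⁻¹ * p * g * w = w * (g⁻¹ * p * g) := h2
      show p * (g * w * g⁻¹) = g * w * g⁻¹ * p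
      calc p * (g * w * g⁻¹) = g * (g⁻¹ * p * g * w) * g⁻¹ := by group
        _ = g * (w * (g⁻¹ * p * g)) * g⁻¹ := by rw [h2']
        _ = g * w * g⁻¹ * p := by group
  obtain ⟨hpS, hpθ⟩ := hpθ
  set q : G := g⁻¹ * p * g with hq
  have hqq : q * q = 1 := by
    calc q * q = g⁻¹ * (p * p) * g := by rw [hq]; group
      _ = 1 := by rw [D.rr p hp]; group
  have hqu : q * u = u * q := by
    have := D.tc p (D.rT p hp)
    calc q * u = g⁻¹ * (p * t) * g := by rw [hq, hu]; group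
      _ = g⁻¹ * (t * p) * g := by rw [this]
      _ = u * q := by rw [hq, hu]; group
  -- `δ q = ι`
  have hqδ : δ ⟨q, hpS⟩ = ι := by
    rcases D.valδ ⟨q, hpS⟩ (Subtype.ext hqq) with h | h
    · exfalso
      obtain ⟨y, -, hy⟩ := D.conj ⟨q, hpS⟩ (Subtype.ext hqq) hpθ h
      have hy' : y * t * y⁻¹ = q := hy
      apply D.root_not_conj hp (g * y)
      calc g * y * t * (g * y)⁻¹ = g * (y * t * y⁻¹) * g⁻¹ := by group
        _ = g * q * g⁻¹ := by rw [hy']
        _ = p := by rw [hq]; group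
    · exact h
  -- `q u` is conjugate to `t`
  have hquS : q * u ∈ S := mul_mem hpS huS
  have hmul : (⟨q * u, hquS⟩ : S) = ⟨q, hpS⟩ * ⟨u, huS⟩ := rfl
  obtain ⟨y, hyS, hy⟩ := D.conj ⟨q * u, hquS⟩ (Subtype.ext (by
      show q * u * (q * u) = 1
      calc q * u * (q * u) = q * (u * q) * u := by group
        _ = q * (q * u) * u := by rw [hqu]
        _ = (q * q) * (u * u) := by group
        _ = 1 := by rw [hqq, huu, one_mul]))
    (by rw [hmul, map_mul, hpθ, hθ, mul_one]) (by rw [hmul, map_mul, hqδ, hδ, D.ii])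
  have hy' : y * t * y⁻¹ = q * u := hy
  -- the perfect group containing `p`, moved to `C(t)`
  obtain ⟨P, hPK, hPP, hpP, hc⟩ := D.rP p hp
  have h1 : P.map (MulAut.conj (g * y)⁻¹).toMonoidHom ≤ K := by
    apply D.perf
    · rw [← Subgroup.map_commutator, hPP]
    · rintro _ ⟨x, hx, rfl⟩
      have h2 := hc x hx
      have h3 := D.Kt x (hPK hx)
      have h4 : g⁻¹ * x * g * (q * u) = q * u * (g⁻¹ * x * g) := by
        calc g⁻¹ * x * g * (q * u) = g⁻¹ * (x * p) * t * g := by rw [hq, hu]; group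
          _ = g⁻¹ * (p * x) * t * g := by rw [h2]
          _ = g⁻¹ * p * (x * t) * g := by group
          _ = g⁻¹ * p * (t * x) * g := by rw [h3]
          _ = q * u * (g⁻¹ * x * g) := by rw [hq, hu]; group
      show (g * y)⁻¹ * x * (g * y)⁻¹⁻¹ * t = t * ((g * y)⁻¹ * x * (g * y)⁻¹⁻¹)
      calc (g * y)⁻¹ * x * (g * y)⁻¹⁻¹ * t = y⁻¹ * (g⁻¹ * x * g * (y * t * y⁻¹)) * y := by group
        _ = y⁻¹ * (y * t * y⁻¹ * (g⁻¹ * x * g)) * y := by rw [hy', h4]
        _ = t * ((g * y)⁻¹ * x * (g * y)⁻¹⁻¹) := by group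
  have h2 : y⁻¹ * q * y ∈ K := by
    apply h1
    refine ⟨p, hpP, ?_⟩
    show (g * y)⁻¹ * p * (g * y)⁻¹⁻¹ = y⁻¹ * q * y
    rw [hq]; group
  have hyqS : y⁻¹ * q * y ∈ S := mul_mem (mul_mem (inv_mem hyS) hpS) hyS
  have h3 : y⁻¹ * q * y ∈ T := D.mem_T hyqS (D.Kt _ h2)
  have h4 := D.θK _ h3 h2
  have h5 : (⟨y⁻¹ * q * y, D.TS h3⟩ : S) = ⟨y, hyS⟩⁻¹ * ⟨q, hpS⟩ * ⟨y, hyS⟩ := rfl
  rw [h5, map_mul, map_mul, map_inv, mul_comm (θ ⟨y, hyS⟩)⁻¹, inv_mul_cancel_right, hpθ] at h4
  exact D.i1 h4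

/-- **Case B.** -/
theorem false_of_perfect [Finite G] (hG : commutator G = ⊤) : False := by
  classical
  have := Fintype.ofFinite (G ⧸ S)
  obtain ⟨f, hf, s, hs, hprod⟩ := TFormula.transfer_eq_prod S (θ * δ) t D.tt T D.pT D.tc
  rw [TFormula.hom_eq_one hG] at hprod
  -- the fixed cosets
  have hfix : ∀ g : G, (∀ x ∈ T, x • (g : G ⧸ S) = g) ↔ ∀ x ∈ T, g⁻¹ * x * g ∈ S := by
    intro g
    constructor
    · intro h x hx
      have h1 := h x hx
      rw [MulAction.Quotient.smul_mk, smul_eq_mul, QuotientGroup.eq] at h1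
      have h2 := S.inv_mem h1
      have e : ((x * g)⁻¹ * g)⁻¹ = g⁻¹ * x * g := by group
      rwa [e] at h2
    · intro h x hx
      rw [MulAction.Quotient.smul_mk, smul_eq_mul, QuotientGroup.eq]
      have h2 := S.inv_mem (h x hx)
      have e : (g⁻¹ * x * g)⁻¹ = (x * g)⁻¹ * g := by group
      rwa [e] at h2
  -- the group `N = N(T) ∩ C(t)`
  set N : Subgroup G := normalizer (T : Set G) ⊓ centralizer ({t} : Set G) with hN
  have hTN : T ≤ N := le_inf le_normalizer fun x hx => mem_centralizer_singleton_iff.2 (D.tc x hx)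
  have hodd : Odd (T.relIndex N) := odd_relIndex hTN D.pT fun P hP hTP hPN =>
    D.max P hP hTP fun x hx => mem_centralizer_singleton_iff.1 (hPN hx).2
  set s0 : Finset (G ⧸ S) := s.filter (fun q => ∃ c ∈ N, (c : G ⧸ S) = q) with hs0
  have hval : ∀ q ∈ s, f q = if ∃ c ∈ N, (c : G ⧸ S) = q then ι else 1 := by
    intro q hq
    obtain ⟨g, rfl⟩ := QuotientGroup.mk_surjective q
    have h1 := (hs _).1 hq
    have hTg := (hfix g).1 h1.2
    have h2 := hf _ g rfl (hTg t D.tT)
    rw [h2]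
    have huu : (⟨g⁻¹ * t * g, hTg t D.tT⟩ : S) * ⟨g⁻¹ * t * g, hTg t D.tT⟩ = 1 := by
      apply Subtype.ext
      show g⁻¹ * t * g * (g⁻¹ * t * g) = 1
      calc g⁻¹ * t * g * (g⁻¹ * t * g) = g⁻¹ * (t * t) * g := by group
        _ = 1 := by rw [D.tt]; group
    split_ifs with hc
    · obtain ⟨c, hcN, hcq⟩ := hc
      -- `g = c s`
      have h3 : c⁻¹ * g ∈ S := QuotientGroup.eq.1 hcq
      have h4 : (⟨g⁻¹ * t * g, hTg t D.tT⟩ : S) = ⟨c⁻¹ * g, h3⟩⁻¹ * ⟨t, D.TS D.tT⟩ * ⟨c⁻¹ * g, h3⟩ := by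
        apply Subtype.ext
        show g⁻¹ * t * g = (c⁻¹ * g)⁻¹ * t * (c⁻¹ * g)
        have h5 := mem_centralizer_singleton_iff.1 hcN.2
        calc g⁻¹ * t * g = g⁻¹ * (t * c) * c⁻¹ * g := by group
          _ = g⁻¹ * (c * t) * c⁻¹ * g := by rw [h5]
          _ = (c⁻¹ * g)⁻¹ * t * (c⁻¹ * g) := by group
      rw [h4, map_mul, map_mul, map_inv, mul_comm ((θ * δ) _)⁻¹, inv_mul_cancel_right,
        MonoidHom.mul_apply, D.θt, D.δt, mul_one]
    · rw [MonoidHom.mul_apply]
      rcases D.val _ huu with h3 | ⟨-, h3, h4⟩ | ⟨-, h3, h4⟩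
      · exact h3
      · exfalso
        apply hc
        obtain ⟨y, hyS, hy⟩ := D.conj _ huu h3 h4
        have hy' : y * t * y⁻¹ = g⁻¹ * t * g := hy
        refine ⟨g * y, ⟨?_, mem_centralizer_singleton_iff.2 ?_⟩, ?_⟩
        · -- normalises `T`
          have key : ∀ x ∈ T, (g * y)⁻¹ * x * (g * y) ∈ T := by
            intro x hx
            apply D.mem_T
            · have : (g * y)⁻¹ * x * (g * y) = y⁻¹ * (g⁻¹ * x * g) * y := by group
              rw [this]
              exact mul_mem (mul_mem (inv_mem hyS) (hTg x hx)) hyS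
            · have h5 := D.tc x hx
              have h6 : t = (g * y)⁻¹ * t * (g * y) := by
                calc t = y⁻¹ * (y * t * y⁻¹) * y := by group
                  _ = y⁻¹ * (g⁻¹ * t * g) * y := by rw [hy']
                  _ = (g * y)⁻¹ * t * (g * y) := by group
              calc (g * y)⁻¹ * x * (g * y) * t = (g * y)⁻¹ * x * (g * y) * ((g * y)⁻¹ * t * (g * y)) := by
                    rw [← h6]
                _ = (g * y)⁻¹ * (x * t) * (g * y) := by group
                _ = (g * y)⁻¹ * (t * x) * (g * y) := by rw [h5]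
                _ = ((g * y)⁻¹ * t * (g * y)) * ((g * y)⁻¹ * x * (g * y)) := by group
                _ = t * ((g * y)⁻¹ * x * (g * y)) := by rw [← h6]
          have hmap : T.map (MulAut.conj (g * y)⁻¹).toMonoidHom ≤ T := by
            rintro _ ⟨x, hx, rfl⟩
            have := key x hx
            show (g * y)⁻¹ * x * (g * y)⁻¹⁻¹ ∈ T
            rwa [inv_inv]
          have hinv : (g * y)⁻¹ ∈ normalizer (T : Set G) := by
            rw [mem_normalizer_iff_map_conj_eq]
            apply Subgroup.eq_of_le_of_card_ge hmap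
            exact (Nat.card_congr (T.equivMapOfInjective _ (MulAut.conj (g * y)⁻¹).injective).toEquiv).le
          have := inv_mem hinv
          rwa [inv_inv] at this
        · calc g * y * t = g * (y * t * y⁻¹) * y := by group
            _ = g * (g⁻¹ * t * g) * y := by rw [hy']
            _ = t * (g * y) := by group
        · rw [QuotientGroup.eq]
          have : (g * y)⁻¹ * g = y⁻¹ := by group
          rw [this]
          exact inv_mem hyS
      · exact (D.claim g hTg h3 h4).elim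
  have hprod2 : ∏ q ∈ s, f q = ι ^ s0.card := by
    rw [Finset.prod_congr rfl hval, Finset.prod_ite, Finset.prod_const_one, mul_one, Finset.prod_const]
  -- `|s0| = |N : T|`
  have hcard : s0.card = T.relIndex N := by
    have hNS : N ⊓ S = T := by
      apply le_antisymm
      · intro x hx
        exact D.mem_T hx.2 (mem_centralizer_singleton_iff.1 hx.1.2)
      · exact le_inf hTN D.TS
    have e : ↥(s0) ≃ (N ⧸ T.subgroupOf N) := by
      symm
      refine Equiv.ofBijective (fun q => Quotient.liftOn' q (fun c => (⟨((c : G) : G ⧸ S), ?_⟩ : ↥s0)) ?_) ⟨?_, ?_⟩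
      · rw [hs0, Finset.mem_filter, hs]
        refine ⟨⟨?_, (hfix _).2 ?_⟩, (c : G), c.2, rfl⟩
        · rw [MulAction.Quotient.smul_mk, smul_eq_mul, QuotientGroup.eq]
          have h5 := mem_centralizer_singleton_iff.1 c.2.2
          have : (t * (c : G))⁻¹ * c = t⁻¹ := by
            rw [← h5]; group
          rw [this]
          exact inv_mem (D.TS D.tT)
        · intro x hx
          have h6 := (normalizer (T : Set G)).inv_mem c.2.1
          have h7 := (mem_normalizer_iff.1 h6 x).1 hx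
          rw [inv_inv] at h7
          exact D.TS h7
      · intro a b hab
        apply Subtype.ext
        show ((a : G) : G ⧸ S) = (b : G)
        rw [QuotientGroup.eq]
        have h1 := QuotientGroup.leftRel_apply.1 hab
        exact D.TS (mem_subgroupOf.1 h1)
      · intro a b
        refine Quotient.inductionOn₂' a b ?_
        intro a b hab
        have h1 := congrArg Subtype.val hab
        have h2 : ((a : G) : G ⧸ S) = (b : G) := h1
        rw [QuotientGroup.eq] at h2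
        apply Quotient.sound'
        rw [QuotientGroup.leftRel_apply, mem_subgroupOf]
        have h3 : (a : G)⁻¹ * b ∈ N ⊓ S := ⟨N.mul_mem (N.inv_mem a.2) b.2, h2⟩
        rw [hNS] at h3
        exact h3
      · rintro ⟨q, hq⟩
        rw [hs0, Finset.mem_filter] at hq
        obtain ⟨-, c, hc, hcq⟩ := hq
        exact ⟨Quotient.mk'' ⟨c, hc⟩, Subtype.ext hcq⟩
    rw [relIndex, index, ← Nat.card_congr e, Nat.card_eq_fintype_card, Fintype.card_coe]
  rw [hprod2, hcard] at hprod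
  obtain ⟨k, hk⟩ := hodd
  rw [hk, pow_succ, pow_mul, pow_two, D.ii, one_pow, one_mul] at hprod
  exact D.i1 hprod.symm

end BData

end Cfsg.Agent.OddHalf.D7End.CaseB
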