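import Cfsg.Agent.OddHalf.D7End.Half
import Cfsg.Agent.OddHalf.D7End.Canon

/-!
# Case A, simply laced (helper163, bb ODD 9501)

`V r` are the doubled root groups of a simply laced frame, `A ≤ V ρ` a half, normalised by `N_K(X ρ)`, such that
`[A_a, (A_b)^t] = 1` for `(a, b) = -1`. Then all `K`-conjugates of `A` commute with all `K`-conjugates of `A^t`.
-/

set_option autoImplicit false
set_option linter.unusedSectionVars false

namespace Cfsg.Agent.OddHalf.D7End.FrameA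

open Subgroup Cfsg.Agent.OddHalf.D7End.CaseA Cfsg.Agent.OddHalf.D7End.Canon Cfsg.Agent.OddHalf.SL.Defs
open scoped commutatorElement

variable {L : Type*} [AddCommGroup L] {G : Type*} [Group G]

/-- halves of the doubled root groups -/
structure Fam (t : G) (K : Subgroup G) (B : L → L → ℤ) (Φ : Set L) (X V A : L → Subgroup G) : Prop where
  can : Can t B Φ X V
  XK : ∀ r ∈ Φ, X r ≤ K
  gen : K ≤ ⨆ r ∈ Φ, X r
  Xne : ∀ r ∈ Φ, X r ≠ ⊥
  Xnd : ∀ r ∈ Φ, ∀ s ∈ Φ, B r s = -1 → ∀ x ∈ X r, ∀ y ∈ X s, x * y = y * x → x = 1 ∨ y = 1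
  Xgen : ∀ r ∈ Φ, ∀ s ∈ Φ, B r s = -1 → X (r + s) ≤ ⁅X r, X s⁆
  three : ∀ r ∈ Φ, ∀ s ∈ Φ, B r s = 1 → ∃ m ∈ Φ, B m r = 1 ∧ B m s = 1
  one : ∀ r ∈ Φ, ∃ s ∈ Φ, B r s = 1
  AV : ∀ r ∈ Φ, A r ≤ V r
  inf : ∀ r ∈ Φ, ∀ a ∈ A r, t * a * t ∈ A r → a = 1
  card : ∀ r ∈ Φ, Nat.card (A r) * Nat.card (A r) = Nat.card (V r)
  /-- `[A_r, A_s^t] = 1` for `(r, s) = -1` -/
  br : ∀ r ∈ Φ, ∀ s ∈ Φ, B r s = -1 → ∀ a ∈ A r, ∀ b ∈ A s, a * (t * b * t) = t * b * t * a

namespace Fam

variable {t : G} {K : Subgroup G} {B : L → L → ℤ} {Φ : Set L} {X V A : L → Subgroup G}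
  (D : Fam t K B Φ X V A)

include D

theorem tt : t * t = 1 := D.can.tt

theorem tinv : t⁻¹ = t := D.can.tinv

theorem tct (a : G) : t * (t * a * t) * t = a := by
  calc t * (t * a * t) * t = (t * t) * a * (t * t) := by group
    _ = a := by rw [D.tt, one_mul, mul_one]

theorem tmul (a b : G) : t * (a * b) * t = (t * a * t) * (t * b * t) := by
  calc t * (a * b) * t = t * a * 1 * b * t := by group
    _ = t * a * (t * t) * b * t := by rw [D.tt]
    _ = (t * a * t) * (t * b * t) := by group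

theorem tinv' (a : G) : t * a⁻¹ * t = (t * a * t)⁻¹ := by
  rw [mul_inv_rev, mul_inv_rev, D.tinv, mul_assoc]

theorem exists_mul [Finite G] {r : L} (hr : r ∈ Φ) {w : G} (hw : w ∈ V r) :
    ∃ a ∈ A r, ∃ b ∈ A r, w = a * (t * b * t) := by
  let f : A r × A r → V r := fun p => ⟨p.1 * (t * p.2 * t), mul_mem (D.AV r hr p.1.2)
    (D.can.dbl.conj_t r hr _ (D.AV r hr p.2.2))⟩
  have hf : Function.Injective f := by
    rintro ⟨a, b⟩ ⟨c, d⟩ h
    have h1 : (a : G) * (t * b * t) = c * (t * d * t) := congrArg Subtype.val h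
    have h2 : (c : G)⁻¹ * a = t * (d * (b : G)⁻¹) * t := by
      rw [inv_mul_eq_iff_eq_mul]
      calc (a : G) = a * (t * b * t) * (t * b * t)⁻¹ := by group
        _ = c * (t * d * t) * (t * b * t)⁻¹ := by rw [h1]
        _ = c * (t * (d * (b : G)⁻¹) * t⁻¹) := by group
        _ = c * (t * (d * (b : G)⁻¹) * t) := by rw [D.tinv]
    have h3 : (d : G) * (b : G)⁻¹ = 1 := by
      apply D.inf r hr _ (mul_mem d.2 (inv_mem b.2))
      rw [← h2]
      exact mul_mem (inv_mem c.2) a.2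
    rw [h3, mul_one, D.tt, inv_mul_eq_one] at h2
    exact Prod.ext (Subtype.ext h2.symm) (Subtype.ext (mul_inv_eq_one.1 h3).symm)
  have hcard : Nat.card (A r × A r) = Nat.card (V r) := by rw [Nat.card_prod, D.card r hr]
  have hb := (Nat.bijective_iff_injective_and_card f).2 ⟨hf, hcard⟩
  obtain ⟨⟨a, b⟩, h⟩ := hb.2 ⟨w, hw⟩
  exact ⟨a, a.2, b, b.2, (congrArg Subtype.val h).symm⟩

/-- `X r = {a a^t}` -/
theorem exists_X [Finite G] {r : L} (hr : r ∈ Φ) {x : G} (hx : x ∈ X r) : ∃ a ∈ A r, x = a * (t * a * t) := by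
  have hxV := D.can.dbl.XW r hr hx
  obtain ⟨a, ha, b, hb, e⟩ := D.exists_mul hr hxV
  have hxt := (D.can.dbl.cent r hr x hxV).2 hx
  have h1 : a * (t * b * t) = b * (t * a * t) := by
    have h2 : t * x * t = x := by rw [hxt, mul_assoc, D.tt, mul_one]
    have h3 : t * x * t = (t * a * t) * b := by
      rw [e, D.tmul, D.tct]
    rw [← e, ← h2, h3]
    exact D.can.comm hr (D.can.dbl.conj_t r hr _ (D.AV r hr ha)) (D.AV r hr hb)
  have h2 : b⁻¹ * a = t * (a * b⁻¹) * t := by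
    rw [inv_mul_eq_iff_eq_mul]
    calc a = a * (t * b * t) * (t * b * t)⁻¹ := by group
      _ = b * (t * a * t) * (t * b * t)⁻¹ := by rw [h1]
      _ = b * (t * (a * b⁻¹) * t⁻¹) := by group
      _ = b * (t * (a * b⁻¹) * t) := by rw [D.tinv]
  have h3 : a * b⁻¹ = 1 := by
    apply D.inf r hr _ (mul_mem ha (inv_mem hb))
    rw [← h2]
    exact mul_mem (inv_mem hb) ha
  have h4 : a = b := mul_inv_eq_one.1 h3
  exact ⟨a, ha, by rw [e, ← h4]⟩

theorem mul_t_mem {r : L} (hr : r ∈ Φ) {a : G} (ha : a ∈ A r) : a * (t * a * t) ∈ X r := by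
  have haV := D.AV r hr ha
  have h1 := D.can.dbl.conj_t r hr a haV
  rw [← D.can.dbl.cent r hr _ (mul_mem haV h1)]
  have h2 := D.can.comm hr haV h1
  have h3 : t * (a * (t * a * t)) * t = a * (t * a * t) := by rw [D.tmul, D.tct, h2]
  calc t * (a * (t * a * t)) = t * (a * (t * a * t)) * (t * t) := by rw [D.tt, mul_one]
    _ = t * (a * (t * a * t)) * t * t := by group
    _ = a * (t * a * t) * t := by rw [h3]

/-- `(2)` for `(r, s) ≥ -1` -/
theorem AB {r s : L} (hr : r ∈ Φ) (hs : s ∈ Φ) (h : -1 ≤ B r s) {a b : G} (ha : a ∈ A r) (hb : b ∈ A s) :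
    a * (t * b * t) = t * b * t * a := by
  rcases lt_or_ge (B r s) 0 with h1 | h1
  · exact D.br r hr s hs (by omega) a ha b hb
  · exact D.can.dbl.pos r hr s hs h1 a (D.AV r hr ha) _ (D.can.dbl.conj_t s hs b (D.AV s hs hb))

/-- `(3)`: `[A_r, A_s] ≤ A_{r+s}` -/
theorem comm_mem [Finite G] {r s : L} (hr : r ∈ Φ) (hs : s ∈ Φ) (h : B r s = -1) {a b : G} (ha : a ∈ A r)
    (hb : b ∈ A s) : a * b * a⁻¹ * b⁻¹ ∈ A (r + s) := by
  have hR := D.can.roots
  have hrs := hR.add r hr s hs h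
  have hv := D.can.dbl.neg r hr s hs h a (D.AV r hr ha) b (D.AV s hs hb)
  obtain ⟨a', ha', b', hb', e⟩ := D.exists_mul hrs hv
  obtain ⟨m, hm, hm1, hm2⟩ := D.three (r + s) hrs r hr (by rw [hR.add_left, hR.two r hr, hR.symm s r, h]; norm_num)
  have hc : -m ∈ Φ := hR.neg_mem m hm
  have hm3 : B m s = 0 := by
    have := hR.add_right m r s
    omega
  -- `t w t`, `w ∈ A (-m)`, commutes with `a`, `b`, `a'`
  have hbb : b' = 1 := by
    have k1 : ∀ w ∈ A (-m), (a * b * a⁻¹ * b⁻¹) * (t * w * t) = (t * w * t) * (a * b * a⁻¹ * b⁻¹) := by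
      intro w hw
      have e1 : Commute a (t * w * t) := D.AB hr hc (by rw [hR.neg_right, hR.symm, hm2]) ha hw
      have e2 : Commute b (t * w * t) := D.AB hs hc (by rw [hR.neg_right, hR.symm, hm3]; norm_num) hb hw
      exact (((e1.mul_left e2).mul_left e1.inv_left).mul_left e2.inv_left).eq
    have k2 : ∀ w ∈ A (-m), b' * w = w * b' := by
      intro w hw
      have e1 := k1 w hw
      have e2 : Commute a' (t * w * t) :=
        D.AB hrs hc (by rw [hR.neg_right, hR.symm, hm1]) ha' hw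
      rw [e] at e1
      have e3 : Commute (t * b' * t) (t * w * t) := by
        have e4 : Commute (a' * (t * b' * t)) (t * w * t) := e1
        have e5 := e2.inv_left.mul_left e4
        rwa [inv_mul_cancel_left] at e5
      have e6 : t * (b' * w) * t = t * (w * b') * t := by rw [D.tmul, D.tmul]; exact e3
      have e7 : t * (t * (b' * w) * t) * t = t * (t * (w * b') * t) * t := by rw [e6]
      rwa [D.tct, D.tct] at e7
    have k3 : ∀ w ∈ A (-m), b' * (t * w * t) = (t * w * t) * b' := fun w hw =>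
      D.AB hrs hc (by rw [hR.neg_right, hR.symm, hm1]) hb' hw
    have k4 : ∀ y ∈ X (-m), b' * y = y * b' := by
      intro y hy
      obtain ⟨w, hw, rfl⟩ := D.exists_X hc hy
      have e1 : Commute b' w := k2 w hw
      have e2 : Commute b' (t * w * t) := k3 w hw
      exact (e1.mul_right e2).eq
    have k5 : ∀ y ∈ X (-m), (t * b' * t) * y = y * (t * b' * t) := by
      intro y hy
      have e1 := (D.can.dbl.cent _ hc y (D.can.dbl.XW _ hc hy)).2 hy
      have e2 : t * y * t = y := by rw [e1, mul_assoc, D.tt, mul_one]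
      calc (t * b' * t) * y = (t * b' * t) * (t * y * t) := by rw [e2]
        _ = t * (b' * y) * t := by rw [D.tmul]
        _ = t * (y * b') * t := by rw [k4 y hy]
        _ = (t * y * t) * (t * b' * t) := by rw [D.tmul]
        _ = y * (t * b' * t) := by rw [e2]
    have k6 := D.mul_t_mem hrs hb'
    obtain ⟨y, hy1⟩ := (Subgroup.ne_bot_iff_exists_ne_one).1 (D.Xne _ hc)
    have hB : B (r + s) (-m) = -1 := by rw [hR.neg_right, hR.symm, hm1]
    have k7 : b' * (t * b' * t) * y = y * (b' * (t * b' * t)) := by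
      have e1 : Commute b' (y : G) := k4 y y.2
      have e2 : Commute (t * b' * t) (y : G) := k5 y y.2
      exact (e1.mul_left e2).eq
    rcases D.Xnd _ hrs _ hc hB _ k6 y y.2 k7 with h8 | h8
    · apply D.inf _ hrs b' hb'
      rw [eq_inv_of_mul_eq_one_right h8]
      exact inv_mem hb'
    · exact absurd (Subtype.ext h8) hy1
  rw [e, hbb, mul_one, D.tt, mul_one]
  exact ha'

/-- `(4)`: `A_{r+s} = [A_r, A_s]` -/
theorem le_comm [Finite G] {r s : L} (hr : r ∈ Φ) (hs : s ∈ Φ) (h : B r s = -1) : A (r + s) ≤ ⁅A r, A s⁆ := by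
  have hR := D.can.roots
  have hrs := hR.add r hr s hs h
  have hH : ⁅A r, A s⁆ ≤ A (r + s) := by
    rw [commutator_le]
    intro a ha b hb
    rw [commutatorElement_def]
    exact D.comm_mem hr hs h ha hb
  -- the set of `z (t z t)`, `z ∈ ⁅A r, A s⁆`
  let S : Subgroup G :=
    { carrier := {x | ∃ z ∈ ⁅A r, A s⁆, x = z * (t * z * t)}
      one_mem' := ⟨1, one_mem _, by rw [mul_one, D.tt, one_mul]⟩
      mul_mem' := by
        rintro _ _ ⟨a, ha, rfl⟩ ⟨b, hb, rfl⟩
        refine ⟨a * b, mul_mem ha hb, ?_⟩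
        have h1 := D.AB hrs hrs (by rw [hR.two _ hrs]; norm_num) (hH hb) (hH ha)
        rw [D.tmul]
        calc a * (t * a * t) * (b * (t * b * t)) = a * ((t * a * t) * b) * (t * b * t) := by group
          _ = a * (b * (t * a * t)) * (t * b * t) := by rw [h1]
          _ = a * b * ((t * a * t) * (t * b * t)) := by group
      inv_mem' := by
        rintro _ ⟨a, ha, rfl⟩
        refine ⟨a⁻¹, inv_mem ha, ?_⟩
        have h1 := D.AB hrs hrs (by rw [hR.two _ hrs]; norm_num) (hH ha) (hH ha)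
        rw [h1, mul_inv_rev, D.tinv'] }
  have hS : ⁅X r, X s⁆ ≤ S := by
    rw [commutator_le]
    intro x hx y hy
    obtain ⟨a, ha, rfl⟩ := D.exists_X hr hx
    obtain ⟨b, hb, rfl⟩ := D.exists_X hs hy
    refine ⟨⁅a, b⁆, commutator_mem_commutator ha hb, ?_⟩
    have e1 : Commute a (t * b * t) := D.AB hr hs (by omega) ha hb
    have e2 : Commute b (t * a * t) := D.AB hs hr (by rw [hR.symm]; omega) hb ha
    have e3 : Commute (a * b * a⁻¹ * b⁻¹) ((t * a * t) * (t * b * t) * (t * a * t)⁻¹ * (t * b * t)⁻¹) := by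
      have e4 := D.AB hrs hrs (by rw [hR.two _ hrs]; norm_num) (D.comm_mem hr hs h ha hb) (D.comm_mem hr hs h ha hb)
      rw [D.tmul, D.tmul, D.tmul, D.tinv', D.tinv'] at e4
      exact e4
    have e5 : Commute a (t * a * t) := D.AB hr hr (by rw [hR.two _ hr]; norm_num) ha ha
    have e6 : Commute b (t * b * t) := D.AB hs hs (by rw [hR.two _ hs]; norm_num) hb hb
    rw [commutatorElement_def, commutatorElement_def]
    have e7 : t * (a * b * a⁻¹ * b⁻¹) * t = (t * a * t) * (t * b * t) * (t * a * t)⁻¹ * (t * b * t)⁻¹ := by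
      rw [D.tmul, D.tmul, D.tmul, D.tinv', D.tinv']
    rw [e7]
    generalize t * a * t = a' at e1 e2 e3 e5 e6 ⊢
    generalize t * b * t = b' at e1 e2 e3 e5 e6 ⊢
    -- `(a a')(b b')(a a')⁻¹(b b')⁻¹ = [a,b][a',b']`
    calc a * a' * (b * b') * (a * a')⁻¹ * (b * b')⁻¹ = a * (a' * b) * b' * a'⁻¹ * a⁻¹ * b'⁻¹ * b⁻¹ := by group
      _ = a * (b * a') * b' * a'⁻¹ * a⁻¹ * b'⁻¹ * b⁻¹ := by rw [e2.eq]
      _ = a * b * a' * b' * a'⁻¹ * (a⁻¹ * b'⁻¹) * b⁻¹ := by group
      _ = a * b * a' * b' * a'⁻¹ * (b'⁻¹ * a⁻¹) * b⁻¹ := by rw [e1.inv_inv.eq]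
      _ = a * b * (a' * b' * a'⁻¹ * b'⁻¹) * (a⁻¹ * b⁻¹) := by group
      _ = a * b * ((a' * b' * a'⁻¹ * b'⁻¹) * (a⁻¹ * b⁻¹)) := by group
      _ = a * b * ((a⁻¹ * b⁻¹) * (a' * b' * a'⁻¹ * b'⁻¹)) := by
        have f1 : Commute a⁻¹ a' := e5.inv_left
        have f2 : Commute a⁻¹ b' := e1.inv_left
        have f3 : Commute b⁻¹ a' := e2.inv_left
        have f4 : Commute b⁻¹ b' := e6.inv_left
        have f5 : Commute (a⁻¹ * b⁻¹) (a' * b' * a'⁻¹ * b'⁻¹) :=
          ((((f1.mul_left f3).mul_right (f2.mul_left f4)).mul_right (f1.inv_right.mul_left f3.inv_right)).mul_right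
            (f2.inv_right.mul_left f4.inv_right))
        rw [f5.eq]
      _ = a * b * a⁻¹ * b⁻¹ * (a' * b' * a'⁻¹ * b'⁻¹) := by group
  intro z hz
  obtain ⟨w, hw, e⟩ := hS (D.Xgen r hr s hs h (D.mul_t_mem hrs hz))
  have e1 : w⁻¹ * z = t * (w * z⁻¹) * t := by
    rw [inv_mul_eq_iff_eq_mul, D.tmul, D.tinv']
    calc z = z * (t * z * t) * (t * z * t)⁻¹ := by group
      _ = w * (t * w * t) * (t * z * t)⁻¹ := by rw [e]
      _ = w * ((t * w * t) * (t * z * t)⁻¹) := by group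
  have e2 : w * z⁻¹ = 1 := by
    apply D.inf _ hrs _ (mul_mem (hH hw) (inv_mem hz))
    rw [← e1]
    exact mul_mem (inv_mem (hH hw)) hz
  rw [← mul_inv_eq_one.1 e2]
  exact hw

/-- `(5)`: `[A_r, A_s^t] = 1` for all `r`, `s` -/
theorem AB' [Finite G] {r s : L} (hr : r ∈ Φ) (hs : s ∈ Φ) {a b : G} (ha : a ∈ A r) (hb : b ∈ A s) :
    a * (t * b * t) = t * b * t * a := by
  have hR := D.can.roots
  rcases lt_or_ge (B r s) (-1) with h | h
  · have h2 := hR.ge hr hs
    have h3 : B r s = -2 := by omega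
    have h4 : s = -r := by
      rw [hR.eq_neg hr hs h3, neg_neg]
    subst h4
    obtain ⟨c, hc, hrc⟩ := D.one _ hs
    -- `-r = c + (-r - c)`
    have hd : -r - c ∈ Φ := hR.sub_mem hs hc hrc
    have hcd : B c (-r - c) = -1 := by
      rw [hR.sub_right, hR.two c hc, hR.symm, hrc]; norm_num
    have e0 : c + (-r - c) = -r := by abel
    have h5 := D.le_comm hc hd hcd
    rw [e0] at h5
    have hrc' : B r c = -1 := by
      have := hR.neg_left r c
      omega
    have hrd : B r (-r - c) = -1 := by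
      rw [hR.sub_right, hR.neg_right, hR.two r hr, hrc']; norm_num
    have h6 : ⁅A c, A (-r - c)⁆ ≤ (centralizer ({a} : Set G)).comap (MulAut.conj t).toMonoidHom := by
      rw [commutator_le]
      intro x hx y hy
      rw [mem_comap, mem_centralizer_singleton_iff]
      show t * ⁅x, y⁆ * t⁻¹ * a = a * (t * ⁅x, y⁆ * t⁻¹)
      rw [D.tinv, commutatorElement_def, D.tmul, D.tmul, D.tmul, D.tinv', D.tinv']
      have e1 : Commute a (t * x * t) := D.AB hr hc (by omega) ha hx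
      have e2 : Commute a (t * y * t) := D.AB hr hd (by omega) ha hy
      exact (((e1.mul_right e2).mul_right e1.inv_right).mul_right e2.inv_right).symm.eq
    have h7 := h6 (h5 hb)
    rw [mem_comap, mem_centralizer_singleton_iff] at h7
    have h8 : t * b * t⁻¹ * a = a * (t * b * t⁻¹) := h7
    rw [D.tinv] at h8
    exact h8.symm
  · exact D.AB hr hs h ha hb

/-- the product of all `A r` -/
def S (Φ : Set L) (A : L → Subgroup G) : Subgroup G := ⨆ r ∈ Φ, A r

omit D in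
theorem le_S {r : L} (hr : r ∈ Φ) : A r ≤ S Φ A := le_iSup₂_of_le (f := fun r (_ : r ∈ Φ) => A r) r hr le_rfl

theorem S_comm [Finite G] {a b : G} (ha : a ∈ S Φ A) (hb : b ∈ S Φ A) : a * (t * b * t) = t * b * t * a := by
  have h1 : ∀ s ∈ Φ, ∀ b ∈ A s, ∀ a ∈ S Φ A, a * (t * b * t) = t * b * t * a := by
    intro s hs b hb a ha
    have h2 : S Φ A ≤ centralizer ({t * b * t} : Set G) := by
      refine iSup₂_le fun r hr x hx => ?_
      rw [mem_centralizer_singleton_iff]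
      exact D.AB' hr hs hx hb
    exact mem_centralizer_singleton_iff.1 (h2 ha)
  have h2 : S Φ A ≤ (centralizer ({a} : Set G)).comap (MulAut.conj t).toMonoidHom := by
    refine iSup₂_le fun s hs x hx => ?_
    rw [mem_comap, mem_centralizer_singleton_iff]
    show t * x * t⁻¹ * a = a * (t * x * t⁻¹)
    rw [D.tinv]
    exact (h1 s hs x hx a ha).symm
  have h3 := h2 hb
  rw [mem_comap, mem_centralizer_singleton_iff] at h3
  have h4 : t * b * t⁻¹ * a = a * (t * b * t⁻¹) := h3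
  rw [D.tinv] at h4
  exact h4.symm

/-- `K` normalises the product of all `A r` -/
theorem K_le [Finite G] : K ≤ normalizer (S Φ A : Set G) := by
  refine D.gen.trans (iSup₂_le fun r hr x hx => ?_)
  obtain ⟨a, ha, rfl⟩ := D.exists_X hr hx
  refine mul_mem (le_normalizer (le_S hr ha)) ?_
  rw [mem_normalizer_iff]
  intro y
  constructor
  · intro hy
    have h1 := D.S_comm hy (le_S hr ha)
    have e : t * a * t * y * (t * a * t)⁻¹ = y := by rw [← h1]; group
    rw [e]; exact hy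
  · intro hy
    have h1 := D.S_comm hy (le_S hr ha)
    have e : t * a * t * y * (t * a * t)⁻¹ = y := by
      have h2 : t * a * t * y * (t * a * t)⁻¹ * (t * a * t) = t * a * t * (t * a * t * y * (t * a * t)⁻¹) := h1
      have h3 : y = t * a * t * y * (t * a * t)⁻¹ := by
        apply mul_left_cancel (a := t * a * t)
        calc t * a * t * y = t * a * t * y * (t * a * t)⁻¹ * (t * a * t) := by group
          _ = t * a * t * (t * a * t * y * (t * a * t)⁻¹) := h2
      exact h3.symm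
    rw [e] at hy; exact hy

theorem cj_S [Finite G] {k : G} (hk : k ∈ K) {x : G} (hx : x ∈ S Φ A) : k * x * k⁻¹ ∈ S Φ A :=
  (mem_normalizer_iff.1 (D.K_le hk) x).1 hx

end Fam

/-- **Case A, simply laced.** -/
theorem hyp [Finite G] {t : G} {K : Subgroup G} {B : L → L → ℤ} {Φ : Set L} {X V : L → Subgroup G} {ρ : L}
    {A : Subgroup G} (hρ : ρ ∈ Φ) (C : Can t B Φ X V) (XK : ∀ r ∈ Φ, X r ≤ K) (gen : K ≤ ⨆ r ∈ Φ, X r)
    (Xne : ∀ r ∈ Φ, X r ≠ ⊥)
    (Xnd : ∀ r ∈ Φ, ∀ s ∈ Φ, B r s = -1 → ∀ x ∈ X r, ∀ y ∈ X s, x * y = y * x → x = 1 ∨ y = 1)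
    (Xgen : ∀ r ∈ Φ, ∀ s ∈ Φ, B r s = -1 → X (r + s) ≤ ⁅X r, X s⁆)
    (three : ∀ r ∈ Φ, ∀ s ∈ Φ, B r s = 1 → ∃ m ∈ Φ, B m r = 1 ∧ B m s = 1)
    (one : ∀ r ∈ Φ, ∃ s ∈ Φ, B r s = 1)
    (Kt : ∀ x ∈ K, x * t = t * x)
    (cK : ∀ c, c * t = t * c → (∀ x ∈ K, x * c = c * x) → c = 1 ∨ c = t)
    (tK : t ∉ K) (simp : ∀ L ≤ K, (∀ k ∈ K, ∀ l ∈ L, k * l * k⁻¹ ∈ L) → L = ⊥ ∨ L = K)
    (perf : ∀ P : Subgroup G, ⁅P, P⁆ = P → (∀ x ∈ P, x * t = t * x) → P ≤ K)
    (tr : ∀ r ∈ Φ, ∃ k ∈ K, cj k (X ρ) = X r ∧ cj k (V ρ) = V r)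
    (AV : A ≤ V ρ) (inf : ∀ a ∈ A, t * a * t ∈ A → a = 1) (card : Nat.card A * Nat.card A = Nat.card (V ρ))
    (nrm : ∀ k ∈ K, cj k (X ρ) = X ρ → cj k A ≤ A)
    (br : ∀ r ∈ Φ, ∀ s ∈ Φ, B r s = -1 → ∀ k ∈ K, cj k (X ρ) = X r → ∀ l ∈ K, cj l (X ρ) = X s →
      ∀ a ∈ A, ∀ b ∈ A, (k * a * k⁻¹) * (l * (t * b * t) * l⁻¹) = (l * (t * b * t) * l⁻¹) * (k * a * k⁻¹)) :
    Half.Hyp t K (X ρ) (V ρ) A := by
  classical
  have tt := C.tt
  have tinv := C.tinv
  have hKt' : ∀ k ∈ K, k⁻¹ * t = t * k⁻¹ := fun k hk => by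
    rw [inv_mul_eq_iff_eq_mul, ← mul_assoc, Kt k hk, mul_inv_cancel_right]
  have hct : ∀ l ∈ K, ∀ b : G, t * (l * b * l⁻¹) * t = l * (t * b * t) * l⁻¹ := by
    intro l hl b
    calc t * (l * b * l⁻¹) * t = (t * l) * b * (l⁻¹ * t) := by group
      _ = (l * t) * b * (t * l⁻¹) := by rw [Kt l hl, hKt' l hl]
      _ = l * (t * b * t) * l⁻¹ := by group
  choose! k hkK hkX hkV using tr
  have nrm' : ∀ g ∈ K, cj g (X ρ) = X ρ → cj g A = A := by
    intro g hg h
    exact Subgroup.eq_of_le_of_card_ge (nrm g hg h) (card_cj g A).ge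
  -- the family
  set A' : L → Subgroup G := fun r => cj (k r) A with hA'
  have hwd : ∀ r ∈ Φ, ∀ g ∈ K, cj g (X ρ) = X r → cj g A = A' r := by
    intro r hr g hg h
    have h1 : cj ((k r)⁻¹ * g) (X ρ) = X ρ := by
      rw [cj_mul, h, ← hkX r hr, cj_inv_cj]
    have h2 := nrm' _ (mul_mem (inv_mem (hkK r hr)) hg) h1
    calc cj g A = cj (k r * ((k r)⁻¹ * g)) A := by rw [mul_inv_cancel_left]
      _ = cj (k r) A := by rw [cj_mul, h2]
  have D : Fam t K B Φ X V A' :=
    { can := C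
      XK := XK
      gen := gen
      Xne := Xne
      Xnd := Xnd
      Xgen := Xgen
      three := three
      one := one
      AV := fun r hr => by
        rw [← hkV r hr]; exact cj_mono AV
      inf := by
        rintro r hr _ ⟨a, ha, rfl⟩ h
        have h1 : t * (k r * a * (k r)⁻¹) * t ∈ cj (k r) A := h
        rw [hct _ (hkK r hr), mem_cj] at h1
        have e : (k r)⁻¹ * (k r * (t * a * t) * (k r)⁻¹) * k r = t * a * t := by group
        rw [e] at h1
        show k r * a * (k r)⁻¹ = 1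
        rw [inf a ha h1]; group
      card := fun r hr => by
        rw [card_cj, card, ← hkV r hr, card_cj]
      br := by
        rintro r hr s hs h _ ⟨a, ha, rfl⟩ _ ⟨b, hb, rfl⟩
        show (k r * a * (k r)⁻¹) * (t * (k s * b * (k s)⁻¹) * t) = t * (k s * b * (k s)⁻¹) * t * (k r * a * (k r)⁻¹)
        rw [hct _ (hkK s hs)]
        exact br r hr s hs h _ (hkK r hr) (hkX r hr) _ (hkK s hs) (hkX s hs) a ha b hb }
  have hAρ : A' ρ = A := by
    have := hwd ρ hρ 1 (one_mem K) (cj_one _)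
    rw [cj_one] at this
    exact this.symm
  have hAS : A ≤ Fam.S Φ A' := by rw [← hAρ]; exact Fam.le_S hρ
  exact
    { tt := tt
      Kt := Kt
      cK := cK
      tK := tK
      simp := simp
      perf := perf
      XK := XK ρ hρ
      X1 := Xne ρ hρ
      Xsq := fun x hx => C.dbl.sq ρ hρ x (C.dbl.XW ρ hρ hx)
      gen := by
        refine gen.trans (iSup₂_le fun r hr => ?_)
        rw [← hkX r hr]
        exact Half.cj_le_span (hkK r hr)
      cardW := C.card_V hρ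
      can := by
        intro P h2 hn hb ht hc
        refine C.eq_V hρ h2 (fun v hv a ha h x hx => ?_) hb ht hc
        refine (hn v hv x (XK a ha hx) fun y hy => ?_).symm
        exact C.dbl.pos a ha ρ hρ (by omega) x (C.dbl.XW a ha hx) y (C.dbl.XW ρ hρ hy)
      Wab := fun v hv w hw => C.comm hρ hv hw
      Wt := C.dbl.conj_t ρ hρ
      XW := C.dbl.XW ρ hρ
      AW := AV
      inf := inf
      card := card
      comm := by
        intro g hg l hl a ha b hb
        rw [← hct l hl]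
        exact D.S_comm (D.cj_S hg (hAS ha)) (D.cj_S hl (hAS hb))
      perfA := by
        -- `ρ = c + d`
        have hR := C.roots
        obtain ⟨c, hc, h1⟩ := one ρ hρ
        have hd : ρ - c ∈ Φ := hR.sub_mem hρ hc h1
        have hcd : B c (ρ - c) = -1 := by
          rw [hR.sub_right, hR.two c hc, hR.symm, h1]; norm_num
        have h2 := D.le_comm hc hd hcd
        rw [add_sub_cancel, hAρ] at h2
        exact h2.trans (commutator_mono (Half.cj_le_span (hkK c hc)) (Half.cj_le_span (hkK _ hd))) }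

end Cfsg.Agent.OddHalf.D7End.FrameA
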