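import Cfsg.Agent.OddHalf.D7End.Ustar
import Cfsg.Agent.OddHalf.D7End.CaseB

/-!
# Case B, simply laced (helper163, bb ODD 9501)

`Fra` : the doubled root groups and a Sylow 2-subgroup `T` of `C(t)` acting on the frame of `K`. `T` normalises `U*` and
the doubled root group `V ρ` of the highest root; if `θ : T → A` has kernel `C_T(V ρ)` (case B), and `ε : T → {±1}` is the
diagram part, then `t ∈ G'` is impossible.
-/

set_option autoImplicit false
set_option linter.unusedSectionVars false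

namespace Cfsg.Agent.OddHalf.D7End.FrameB

open Subgroup Cfsg.Agent.OddHalf.D7End.CaseB Cfsg.Agent.OddHalf.D7End.Canon Cfsg.Agent.OddHalf.SL.Defs
  Cfsg.Agent.OddHalf.SL.Bridge

variable {L : Type*} [AddCommGroup L] {G : Type*} [Group G]

/-- the frame: doubled root groups and the action of `T` on the root groups -/
structure Fra (t : G) (K T : Subgroup G) (B : L → L → ℤ) (Φ : Set L) (ht : L →+ ℤ) (X V : L → Subgroup G)
    (ρ : L) : Prop where
  can : Can t B Φ X V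
  Xne : ∀ r ∈ Φ, X r ≠ ⊥
  Xdis : ∀ r ∈ Φ, ∀ s ∈ Φ, r ≠ s → X r ⊓ X s = ⊥
  dir : ∀ a ∈ Φ, 0 < ht a → X a ⊓ (⨆ b : L, ⨆ _ : b ∈ Φ ∧ ht a ≤ ht b ∧ b ≠ a, X b) = ⊥
  hne : ∀ a ∈ Φ, ht a ≠ 0
  Kt : ∀ x ∈ K, x * t = t * x
  tK : t ∉ K
  pT : IsPGroup 2 T
  tT : t ∈ T
  tc : ∀ x ∈ T, x * t = t * x
  /-- `T` is a Sylow subgroup of `C(t)` -/
  max : ∀ P : Subgroup G, IsPGroup 2 P → T ≤ P → (∀ x ∈ P, x * t = t * x) → P ≤ T
  TK : T ⊓ K = pos ht Φ X
  ρΦ : ρ ∈ Φ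
  ρpos : 0 < ht ρ
  dom : ∀ a ∈ Φ, 0 < ht a → 0 ≤ B a ρ
  /-- `x ∈ T` is, modulo `U`, a frame element, inducing a symmetry of the root system -/
  frame : ∀ x ∈ T, ∃ u ∈ pos ht Φ X, ∃ σ : L ≃+ L, (∀ a, σ a ∈ Φ ↔ a ∈ Φ) ∧
    (∀ a ∈ Φ, ∀ b ∈ Φ, B (σ a) (σ b) = B a b) ∧ (∀ a ∈ Φ, ht (σ a) = ht a) ∧
    ∀ a ∈ Φ, ∀ y, y ∈ X a ↔ (u * x) * y * (u * x)⁻¹ ∈ X (σ a)

namespace Fra

variable {t : G} {K T : Subgroup G} {B : L → L → ℤ} {Φ : Set L} {ht : L →+ ℤ} {X V : L → Subgroup G} {ρ : L}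
  (D : Fra t K T B Φ ht X V ρ)

include D

theorem UT : pos ht Φ X ≤ T := by rw [← D.TK]; exact inf_le_left

theorem UK : pos ht Φ X ≤ K := by rw [← D.TK]; exact inf_le_right

theorem UU : pos ht Φ X ≤ pos ht Φ V :=
  iSup₂_le fun a ha => (D.can.dbl.XW a ha.1).trans (le_pos ha.1 ha.2)

/-- roots not orthogonal to `ρ` are positive -/
theorem rad {a : L} (ha : a ∈ Φ) (h : 1 ≤ B a ρ) : 0 < ht a := by
  by_contra hcon
  have h1 := D.hne a ha
  have h2 : 0 < ht (-a) := by rw [map_neg]; omega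
  have h3 := D.dom (-a) (D.can.roots.neg_mem a ha) h2
  rw [D.can.roots.neg_left] at h3
  omega

/-- `V ρ` is central in `U*` -/
theorem cent {x v : G} (hx : x ∈ pos ht Φ V) (hv : v ∈ V ρ) : x * v = v * x := by
  have h1 : pos ht Φ V ≤ centralizer ({v} : Set G) := by
    refine iSup₂_le fun a ha y hy => ?_
    rw [mem_centralizer_singleton_iff]
    exact D.can.dbl.pos a ha.1 ρ D.ρΦ (D.dom a ha.1 ha.2) y hy v hv
  exact mem_centralizer_singleton_iff.1 (h1 hx)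

/-- an element of `T` centralising `U` lies in `⟨t⟩ X ρ` -/
theorem mem_of_cent {x : G} (hx : x ∈ T) (h : ∀ u ∈ pos ht Φ X, x * u = u * x) : x ∈ X ρ ∨ t * x ∈ X ρ :=
  D.can.K1 ρ D.ρΦ x (D.tc x hx) fun a ha h1 y hy => h y (le_pos ha (D.rad ha h1) hy)

/-- `T` normalises `X ρ` -/
theorem T_X {x y : G} (hx : x ∈ T) (hy : y ∈ X ρ) : x * y * x⁻¹ ∈ X ρ := by
  have hUn : ∀ u ∈ pos ht Φ X, x⁻¹ * u * x ∈ pos ht Φ X := by
    obtain ⟨w, hw, σ, hσ1, hσ2, hσ3, hσ4⟩ := D.frame x⁻¹ (inv_mem hx)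
    have h1 : pos ht Φ X ≤ (pos ht Φ X).comap (MulAut.conj (w * x⁻¹)).toMonoidHom := by
      refine iSup₂_le fun a ha y hy => ?_
      exact le_pos ((hσ1 a).2 ha.1) (by rw [hσ3 a ha.1]; exact ha.2) ((hσ4 a ha.1 y).1 hy)
    intro u hu
    have h2 : w * x⁻¹ * u * (w * x⁻¹)⁻¹ ∈ pos ht Φ X := h1 hu
    have h3 := mul_mem (mul_mem (inv_mem hw) h2) hw
    have e : w⁻¹ * (w * x⁻¹ * u * (w * x⁻¹)⁻¹) * w = x⁻¹ * u * x := by group
    rwa [e] at h3
  have hyU : y ∈ pos ht Φ X := le_pos D.ρΦ D.ρpos hy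
  have hxy : x * y * x⁻¹ ∈ T := mul_mem (mul_mem hx (D.UT hyU)) (inv_mem hx)
  rcases D.mem_of_cent hxy (by
    intro u hu
    have h1 := (D.cent (D.UU (hUn u hu)) (D.can.dbl.XW ρ D.ρΦ hy)).symm
    calc x * y * x⁻¹ * u = x * (y * (x⁻¹ * u * x)) * x⁻¹ := by group
      _ = x * (x⁻¹ * u * x * y) * x⁻¹ := by rw [h1]
      _ = u * (x * y * x⁻¹) := by group) with h1 | h1
  · exact h1
  · exfalso
    -- `x y x⁻¹ ∈ U`
    obtain ⟨w, hw, σ, hσ1, hσ2, hσ3, hσ4⟩ := D.frame x hx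
    have h2 := (hσ4 ρ D.ρΦ y).1 hy
    have h3 : w * x * y * (w * x)⁻¹ ∈ pos ht Φ X :=
      le_pos ((hσ1 ρ).2 D.ρΦ) (by rw [hσ3 ρ D.ρΦ]; exact D.ρpos) h2
    have h4 := mul_mem (mul_mem (inv_mem hw) h3) hw
    have e : w⁻¹ * (w * x * y * (w * x)⁻¹) * w = x * y * x⁻¹ := by group
    rw [e] at h4
    apply D.tK
    have h5 := mul_mem (D.UK (le_pos D.ρΦ D.ρpos h1)) (inv_mem (D.UK h4))
    rwa [mul_inv_cancel_right] at h5

/-- frame elements permute the doubled root groups -/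
theorem frame_V {x u : G} (hx : x ∈ T) (hu : u ∈ pos ht Φ X) {σ : L ≃+ L} (hσ1 : ∀ a, σ a ∈ Φ ↔ a ∈ Φ)
    (hσ2 : ∀ a ∈ Φ, ∀ b ∈ Φ, B (σ a) (σ b) = B a b)
    (hσ4 : ∀ a ∈ Φ, ∀ y, y ∈ X a ↔ (u * x) * y * (u * x)⁻¹ ∈ X (σ a)) {a : L} (ha : a ∈ Φ) {v : G} (hv : v ∈ V a) :
    (u * x) * v * (u * x)⁻¹ ∈ V (σ a) := by
  apply D.can.conj ha ((hσ1 a).2 ha) (D.tc _ (mul_mem (D.UT hu) hx)) (fun y hy => (hσ4 a ha y).1 hy) ?_ hv
  intro b hb h1
  have hb' : σ.symm b ∈ Φ := by rw [← hσ1, AddEquiv.apply_symm_apply]; exact hb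
  refine ⟨σ.symm b, hb', ?_, ?_⟩
  · have h2 := hσ2 _ hb' _ ha
    rw [AddEquiv.apply_symm_apply] at h2
    omega
  · intro y hy
    rw [hσ4 _ hb']
    have e : u * x * ((u * x)⁻¹ * y * (u * x)) * (u * x)⁻¹ = y := by group
    rw [e, AddEquiv.apply_symm_apply]
    exact hy

/-- frame elements fix `ρ` -/
theorem frame_ρ {x u : G} (hx : x ∈ T) (hu : u ∈ pos ht Φ X) {σ : L ≃+ L} (hσ1 : ∀ a, σ a ∈ Φ ↔ a ∈ Φ)
    (hσ4 : ∀ a ∈ Φ, ∀ y, y ∈ X a ↔ (u * x) * y * (u * x)⁻¹ ∈ X (σ a)) : σ ρ = ρ := by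
  by_contra hne
  obtain ⟨y, hy⟩ := (Subgroup.ne_bot_iff_exists_ne_one).1 (D.Xne ρ D.ρΦ)
  have h1 := (hσ4 ρ D.ρΦ y).1 y.2
  have h2 := D.T_X (mul_mem (D.UT hu) hx) y.2
  have h3 := D.Xdis _ ((hσ1 ρ).2 D.ρΦ) ρ D.ρΦ hne
  have h4 : u * x * y * (u * x)⁻¹ ∈ (⊥ : Subgroup G) := by rw [← h3]; exact ⟨h1, h2⟩
  apply hy
  apply Subtype.ext
  rw [mem_bot] at h4
  have h5 : (y : G) = (u * x)⁻¹ * (u * x * y * (u * x)⁻¹) * (u * x) := by group
  rw [h5, h4]; simp

/-- `T` normalises `V ρ` -/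
theorem T_V {x v : G} (hx : x ∈ T) (hv : v ∈ V ρ) : x * v * x⁻¹ ∈ V ρ := by
  obtain ⟨u, hu, σ, hσ1, hσ2, hσ3, hσ4⟩ := D.frame x hx
  have h1 := D.frame_V hx hu hσ1 hσ2 hσ4 D.ρΦ hv
  rw [D.frame_ρ hx hu hσ1 hσ4] at h1
  have h2 := D.cent (D.UU hu) h1
  have e : x * v * x⁻¹ = u⁻¹ * (u * x * v * (u * x)⁻¹) * u := by group
  rw [e, mul_assoc, ← h2, inv_mul_cancel_left]
  exact h1

/-- `T` normalises `U*` -/
theorem T_U {x v : G} (hx : x ∈ T) (hv : v ∈ pos ht Φ V) : x * v * x⁻¹ ∈ pos ht Φ V := by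
  obtain ⟨u, hu, σ, hσ1, hσ2, hσ3, hσ4⟩ := D.frame x hx
  have h1 : pos ht Φ V ≤ (pos ht Φ V).comap (MulAut.conj (u * x)).toMonoidHom := by
    refine iSup₂_le fun a ha y hy => ?_
    exact le_pos ((hσ1 a).2 ha.1) (by rw [hσ3 a ha.1]; exact ha.2) (D.frame_V hx hu hσ1 hσ2 hσ4 ha.1 hy)
  have h2 : u * x * v * (u * x)⁻¹ ∈ pos ht Φ V := h1 hv
  have h3 := mul_mem (mul_mem (inv_mem (D.UU hu)) h2) (D.UU hu)
  have e : u⁻¹ * (u * x * v * (u * x)⁻¹) * u = x * v * x⁻¹ := by group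
  rwa [e] at h3

theorem T_le : T ≤ normalizer (pos ht Φ V : Set G) := by
  intro x hx
  rw [mem_normalizer_iff]
  intro v
  constructor
  · exact D.T_U hx
  · intro hv
    have h3 := D.T_U (inv_mem hx) hv
    have e : x⁻¹ * (x * v * x⁻¹) * x⁻¹⁻¹ = v := by group
    rwa [e] at h3

/-- **Case B.** -/
theorem bData [Finite G] {A : Type*} [CommGroup A] (θ δ : T →* A)
    (hθ : ∀ x : T, θ x = 1 ↔ ∀ v ∈ V ρ, (x : G) * v = v * x)
    (hθ2 : ∀ x : T, θ (x * x) = 1 → θ x = 1 ∨ θ x = θ ⟨t, D.tT⟩)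
    (hδ : ∀ x : T, δ x = 1 ∨ δ x = θ ⟨t, D.tT⟩) (hδt : δ ⟨t, D.tT⟩ = 1)
    (hδU : ∀ x (hx : x ∈ T), x ∈ pos ht Φ X → δ ⟨x, hx⟩ = 1)
    (hker : ∀ x : T, θ x = 1 → δ x = 1 → (x : G) ∈ pos ht Φ X)
    (perf : ∀ P : Subgroup G, ⁅P, P⁆ = P → (∀ x ∈ P, x * t = t * x) → P ≤ K)
    (P2 : ∀ a ∈ Φ, 0 < ht a → ∃ P ≤ K, ⁅P, P⁆ = P ∧ X a ≤ P ∧ ∀ x ∈ P, ∀ p ∈ X a, x * p = p * x) :
    ∃ (θ' δ' : ↥(pos ht Φ V ⊔ T) →* A), BData t K T (pos ht Φ V ⊔ T) (V ρ) θ' δ' (θ ⟨t, D.tT⟩)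
      {p | ∃ a ∈ Φ, 0 < ht a ∧ p ∈ X a} := by
  obtain ⟨hU1, hU2, hU3⟩ := Ustar.main D.can.roots D.can.dbl ht D.dir
  have tt := D.can.tt
  have tinv := D.can.tinv
  -- `U* ∩ T = U`
  have hUT : ∀ x ∈ T, x ∈ pos ht Φ V → x ∈ pos ht Φ X := by
    intro x hx hxU
    apply hU2 x hxU
    rw [← D.tc x hx, mul_assoc, tt, mul_one]
  have hθU : ∀ x (hx : x ∈ T), x ∈ pos ht Φ V → θ ⟨x, hx⟩ = 1 := by
    intro x hx hxU
    rw [hθ]
    intro v hv
    exact D.cent hxU hv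
  obtain ⟨θ', hθ'N, hθ'T⟩ := Ustar.exists_ext D.T_le θ hθU
  obtain ⟨δ', hδ'N, hδ'T⟩ := Ustar.exists_ext D.T_le δ fun x hx hxU => hδU x hx (hUT x hx hxU)
  have hdec : ∀ s : ↥(pos ht Φ V ⊔ T), ∃ n, ∃ hn : n ∈ pos ht Φ V, ∃ x, ∃ hx : x ∈ T,
      s = ⟨n, mem_sup_left hn⟩ * ⟨x, mem_sup_right hx⟩ := by
    rintro ⟨s, hs⟩
    have hs' : s ∈ ((pos ht Φ V ⊔ T : Subgroup G) : Set G) := hs
    rw [coe_mul_of_right_le_normalizer_left _ T D.T_le] at hs'
    obtain ⟨n, hn, x, hx, e⟩ := Set.mem_mul.1 hs'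
    exact ⟨n, hn, x, hx, Subtype.ext e.symm⟩
  have hval : ∀ (n : G) (hn : n ∈ pos ht Φ V) (x : G) (hx : x ∈ T),
      θ' (⟨n, mem_sup_left hn⟩ * ⟨x, mem_sup_right hx⟩) = θ ⟨x, hx⟩ ∧
      δ' (⟨n, mem_sup_left hn⟩ * ⟨x, mem_sup_right hx⟩) = δ ⟨x, hx⟩ := by
    intro n hn x hx
    rw [map_mul, map_mul, hθ'N n hn, hδ'N n hn, one_mul, one_mul, hθ'T x hx, hδ'T x hx]
    exact ⟨rfl, rfl⟩
  have hι : θ ⟨t, D.tT⟩ ≠ 1 := by
    intro h
    rw [hθ] at h
    obtain ⟨y, hy⟩ := (Subgroup.ne_bot_iff_exists_ne_one).1 (D.Xne ρ D.ρΦ)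
    obtain ⟨w, hw, e⟩ := D.can.dbl.surj ρ D.ρΦ y y.2
    apply hy
    apply Subtype.ext
    have h1 : t * w = w * t := h w hw
    rw [← e, h1, mul_assoc w, tt, mul_one, inv_mul_cancel]
    rfl
  have hιι : θ ⟨t, D.tT⟩ * θ ⟨t, D.tT⟩ = 1 := by
    rw [← map_mul, ← map_one θ]
    congr 1
    exact Subtype.ext tt
  refine ⟨θ', δ', ?_⟩
  exact
    { tt := tt
      pS := by
        rw [sup_comm]
        exact D.pT.to_sup_of_normal_right' hU1 D.T_le
      TS := le_sup_right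
      tT := D.tT
      tc := D.tc
      max := D.max
      i1 := hι
      ii := hιι
      θt := hθ'T t D.tT
      δt := by
        have := hδ'T t D.tT
        rw [this]; exact hδt
      valθ := by
        intro s hss
        obtain ⟨n, hn, x, hx, rfl⟩ := hdec s
        have h1 := (hval n hn x hx).1
        rw [h1]
        apply hθ2
        have h2 : θ' ((⟨n, mem_sup_left hn⟩ * ⟨x, mem_sup_right hx⟩) *
            (⟨n, mem_sup_left hn⟩ * ⟨x, mem_sup_right hx⟩)) = 1 := by rw [hss, map_one]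
        rw [map_mul, h1] at h2
        rw [map_mul]; exact h2
      valδ := by
        intro s _
        obtain ⟨n, hn, x, hx, rfl⟩ := hdec s
        rw [(hval n hn x hx).2]
        exact hδ _
      conj := by
        intro s hss h1 h2
        obtain ⟨n, hn, x, hx, rfl⟩ := hdec s
        rw [(hval n hn x hx).1] at h1
        rw [(hval n hn x hx).2] at h2
        -- `t x ∈ U`
        have h3 : t * x ∈ pos ht Φ X := by
          refine hker (⟨t, D.tT⟩ * ⟨x, hx⟩) ?_ ?_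
          · rw [map_mul, h1, hιι]
          · rw [map_mul, h2, hδt, one_mul]
        -- `t n x ∈ U*`
        have h4 : t * (n * x) ∈ pos ht Φ V := by
          have h5 := mul_mem (D.T_U D.tT hn) (D.UU h3)
          have e : t * n * t⁻¹ * (t * x) = t * (n * x) := by group
          rwa [e] at h5
        have h5 : (t * (t * (n * x))) * (t * (t * (n * x))) = 1 := by
          have e : t * (t * (n * x)) = n * x := by rw [← mul_assoc, tt, one_mul]
          rw [e]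
          exact congrArg Subtype.val hss
        obtain ⟨c, hc, e⟩ := hU3 _ h4 h5
        refine ⟨c, mem_sup_left hc, ?_⟩
        rw [← e, ← mul_assoc, tt, one_mul]
        rfl
      WS := (le_pos D.ρΦ D.ρpos).trans le_sup_left
      Wc := by
        intro s hs w hw
        obtain ⟨n, hn, x, hx, rfl⟩ := hdec s
        rw [(hval n hn x hx).1, hθ] at hs
        show n * x * w = w * (n * x)
        have h1 : x * w = w * x := hs w hw
        rw [mul_assoc, h1, ← mul_assoc, D.cent hn hw, mul_assoc]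
      Wδ := fun w hw => hδ'N w (le_pos D.ρΦ D.ρpos hw)
      tK := D.tK
      perf := perf
      Kt := D.Kt
      θK := by
        intro x hx hxK
        rw [hθ'T x hx, hθ]
        intro v hv
        have h1 : x ∈ pos ht Φ X := by rw [← D.TK]; exact ⟨hx, hxK⟩
        exact D.cent (D.UU h1) hv
      rT := by
        rintro p ⟨a, ha, h0, hp⟩
        exact D.UT (le_pos ha h0 hp)
      rr := by
        rintro p ⟨a, ha, h0, hp⟩
        exact D.can.dbl.sq a ha p (D.can.dbl.XW a ha hp)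
      rP := by
        rintro p ⟨a, ha, h0, hp⟩
        obtain ⟨P, h1, h2, h3, h4⟩ := P2 a ha h0
        exact ⟨P, h1, h2, h3 hp, fun x hx => h4 x hx p hp⟩
      small := by
        intro P hPT hc htP hcard
        have key : ∀ v ∈ P, v ∈ X ρ ∨ t * v ∈ X ρ := by
          intro v hv
          apply D.mem_of_cent (hPT hv)
          intro u hu
          have h1 : pos ht Φ X ≤ centralizer ({v} : Set G) := by
            refine iSup₂_le fun a ha y hy => ?_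
            rw [mem_centralizer_singleton_iff]
            exact hc y ⟨a, ha.1, ha.2, hy⟩ v hv
          exact (mem_centralizer_singleton_iff.1 (h1 hu)).symm
        have h5 : Nat.card P ≤ 2 * Nat.card (X ρ) := by
          classical
          have h6 : Function.Injective (fun v : P => (if h : (v : G) ∈ X ρ then ((0 : Fin 2), (⟨v, h⟩ : X ρ))
              else (1, ⟨t * v, (key v v.2).resolve_left h⟩) : Fin 2 × X ρ)) := by
            intro a b hab
            dsimp only at hab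
            split_ifs at hab with ha hb hb
            · have h7 := congrArg (fun q => ((q.2 : X ρ) : G)) hab
              exact Subtype.ext h7
            · exact absurd (congrArg Prod.fst hab) (by simp)
            · exact absurd (congrArg Prod.fst hab) (by simp)
            · have h7 := congrArg (fun q => ((q.2 : X ρ) : G)) hab
              exact Subtype.ext (mul_left_cancel h7)
          have h7 := Nat.card_le_card_of_injective _ h6
          rwa [Nat.card_prod, Nat.card_fin] at h7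
        rw [hcard, D.can.card_V D.ρΦ] at h5
        have h6 : Nat.card (X ρ) ≤ 2 := Nat.le_of_mul_le_mul_right h5 Nat.card_pos
        have h7 : 1 < Nat.card (X ρ) := by
          obtain ⟨y, hy⟩ := (Subgroup.ne_bot_iff_exists_ne_one).1 (D.Xne ρ D.ρΦ)
          have : Nontrivial (X ρ) := ⟨⟨y, 1, hy⟩⟩
          exact Finite.one_lt_card
        have h8 : Nat.card (X ρ) = 2 := by omega
        rw [D.can.card_V D.ρΦ, h8] at hcard
        -- `X ρ ∪ t X ρ` has four elements, so `P` contains `t`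
        apply htP
        classical
        have h9 : Function.Injective (fun v : P => (if h : (v : G) ∈ X ρ then ((0 : Fin 2), (⟨v, h⟩ : X ρ))
            else (1, ⟨t * v, (key v v.2).resolve_left h⟩) : Fin 2 × X ρ)) := by
          intro a b hab
          dsimp only at hab
          split_ifs at hab with ha hb hb
          · have h7 := congrArg (fun q => ((q.2 : X ρ) : G)) hab
            exact Subtype.ext h7
          · exact absurd (congrArg Prod.fst hab) (by simp)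
          · exact absurd (congrArg Prod.fst hab) (by simp)
          · have h7 := congrArg (fun q => ((q.2 : X ρ) : G)) hab
            exact Subtype.ext (mul_left_cancel h7)
        have h10 := (Nat.bijective_iff_injective_and_card _).2 ⟨h9, by
          rw [Nat.card_prod, Nat.card_fin, h8, hcard]⟩
        obtain ⟨v, hv⟩ := h10.2 (1, 1)
        dsimp only at hv
        split_ifs at hv with h
        · exact absurd (congrArg Prod.fst hv) (by simp)
        · have h11 := congrArg (fun q => ((q.2 : X ρ) : G)) hv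
          have h12 : t * (v : G) = 1 := h11
          have h13 : t = v := by
            have := mul_eq_one_iff_eq_inv.1 h12
            have h14 : (v : G) = t⁻¹ := eq_inv_of_mul_eq_one_right h12
            rw [h14, tinv]
          rw [h13]; exact v.2 }

end Fra

end Cfsg.Agent.OddHalf.D7End.FrameB
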