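import Cfsg.Agent.OddHalf.D7End.CaseA

/-!
# Case A from one half of the doubled root group (helper163, bb ODD 9501)

`W` is the doubled root group of `X ≤ K`, `A ≤ W` a half of it: `|A|² = |W|`, `A ∩ A^t = 1`, such that all `K`-conjugates
of `A` commute with all `K`-conjugates of `A^t`. No frame: the theorem applies to every `K` generated by the conjugates
of `X`.
-/

set_option autoImplicit false
set_option linter.unusedSectionVars false

namespace Cfsg.Agent.OddHalf.D7End.Half

open Subgroup Cfsg.Agent.OddHalf.D7End.CaseA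
open scoped commutatorElement

variable {G : Type*} [Group G]

/-- the subgroup generated by the `K`-conjugates of `A` -/
def span (K A : Subgroup G) : Subgroup G := ⨆ k : K, cj (k : G) A

theorem cj_le_span {K A : Subgroup G} {k : G} (hk : k ∈ K) : cj k A ≤ span K A :=
  le_iSup (fun k : K => cj (k : G) A) ⟨k, hk⟩

theorem le_span {K A : Subgroup G} : A ≤ span K A := by
  have := cj_le_span (A := A) (one_mem K)
  rwa [cj_one] at this

theorem span_le {K A H : Subgroup G} (h : ∀ k ∈ K, cj k A ≤ H) : span K A ≤ H :=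
  iSup_le fun k => h k k.2

theorem cj_span {K A : Subgroup G} {k : G} (hk : k ∈ K) : cj k (span K A) ≤ span K A := by
  have h1 : span K A ≤ cj k⁻¹ (span K A) := by
    refine span_le fun l hl => ?_
    have h2 := cj_mono (g := k⁻¹) (cj_le_span (A := A) (mul_mem hk hl))
    rwa [← cj_mul, inv_mul_cancel_left] at h2
  have h2 := cj_mono (g := k) h1
  rwa [cj_cj_inv] at h2

/-- the hypotheses -/
structure Hyp (t : G) (K X W A : Subgroup G) : Prop where
  tt : t * t = 1
  Kt : ∀ x ∈ K, x * t = t * x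
  cK : ∀ c, c * t = t * c → (∀ x ∈ K, x * c = c * x) → c = 1 ∨ c = t
  tK : t ∉ K
  simp : ∀ L ≤ K, (∀ k ∈ K, ∀ l ∈ L, k * l * k⁻¹ ∈ L) → L = ⊥ ∨ L = K
  perf : ∀ P : Subgroup G, ⁅P, P⁆ = P → (∀ x ∈ P, x * t = t * x) → P ≤ K
  XK : X ≤ K
  X1 : X ≠ ⊥
  Xsq : ∀ x ∈ X, x * x = 1
  /-- `K` is generated by the conjugates of `X` -/
  gen : K ≤ span K X
  cardW : Nat.card W = Nat.card X * Nat.card X
  can : ∀ V : Subgroup G, (∀ v ∈ V, v * v = 1) →
    (∀ v ∈ V, ∀ k ∈ K, (∀ x ∈ X, k * x = x * k) → k * v = v * k) →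
    (∀ v ∈ V, v⁻¹ * (t * v * t) ∈ X) → t ∉ V → Nat.card V = Nat.card W → V = W
  Wab : ∀ v ∈ W, ∀ w ∈ W, v * w = w * v
  Wt : ∀ w ∈ W, t * w * t ∈ W
  XW : X ≤ W
  AW : A ≤ W
  inf : ∀ a ∈ A, t * a * t ∈ A → a = 1
  card : Nat.card A * Nat.card A = Nat.card W
  comm : ∀ k ∈ K, ∀ l ∈ K, ∀ a ∈ A, ∀ b ∈ A,
    (k * a * k⁻¹) * (l * (t * b * t) * l⁻¹) = (l * (t * b * t) * l⁻¹) * (k * a * k⁻¹)
  perfA : A ≤ ⁅span K A, span K A⁆

namespace Hyp

variable {t : G} {K X W A : Subgroup G} (D : Hyp t K X W A)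

include D

theorem tinv : t⁻¹ = t := inv_eq_of_mul_eq_one_left D.tt

/-- `W = A A^t` -/
theorem exists_mul [Finite G] {w : G} (hw : w ∈ W) : ∃ a ∈ A, ∃ b ∈ A, w = a * (t * b * t) := by
  let f : A × A → W := fun p => ⟨p.1 * (t * p.2 * t), mul_mem (D.AW p.1.2) (D.Wt _ (D.AW p.2.2))⟩
  have hf : Function.Injective f := by
    rintro ⟨a, b⟩ ⟨c, d⟩ h
    have h1 : (a : G) * (t * b * t) = c * (t * d * t) := congrArg Subtype.val h
    have h2 : (c : G)⁻¹ * a = t * (d * (b : G)⁻¹) * t := by
      rw [inv_mul_eq_iff_eq_mul]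
      calc (a : G) = a * (t * b * t) * (t * b * t)⁻¹ := by group
        _ = c * (t * d * t) * (t * b * t)⁻¹ := by rw [h1]
        _ = c * (t * (d * (b : G)⁻¹) * t⁻¹) := by group
        _ = c * (t * (d * (b : G)⁻¹) * t) := by rw [D.tinv]
    have h3 : (d : G) * (b : G)⁻¹ = 1 := by
      apply D.inf _ (mul_mem d.2 (inv_mem b.2))
      rw [← h2]
      exact mul_mem (inv_mem c.2) a.2
    rw [h3, mul_one, D.tt, inv_mul_eq_one] at h2
    exact Prod.ext (Subtype.ext h2.symm) (Subtype.ext (mul_inv_eq_one.1 h3).symm)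
  have hcard : Nat.card (A × A) = Nat.card W := by rw [Nat.card_prod, D.card]
  have hb := (Nat.bijective_iff_injective_and_card f).2 ⟨hf, hcard⟩
  obtain ⟨⟨a, b⟩, h⟩ := hb.2 ⟨w, hw⟩
  exact ⟨a, a.2, b, b.2, (congrArg Subtype.val h).symm⟩

theorem comm_span {a b : G} (ha : a ∈ span K A) (hb : b ∈ span K A) : a * (t * b * t) = t * b * t * a := by
  have hKt : ∀ l ∈ K, t * l = l * t := fun l hl => (D.Kt l hl).symm
  -- the elements of `cj k A` commute with the `t b t`, `b ∈ span`
  have h1 : ∀ k ∈ K, ∀ a ∈ A, ∀ b ∈ span K A, (k * a * k⁻¹) * (t * b * t) = (t * b * t) * (k * a * k⁻¹) := by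
    intro k hk a ha
    have h2 : span K A ≤ (centralizer ({k * a * k⁻¹} : Set G)).comap (MulAut.conj t).toMonoidHom := by
      refine span_le fun l hl => ?_
      rintro _ ⟨b, hb, rfl⟩
      rw [mem_comap, mem_centralizer_singleton_iff]
      show t * (l * b * l⁻¹) * t⁻¹ * (k * a * k⁻¹) = k * a * k⁻¹ * (t * (l * b * l⁻¹) * t⁻¹)
      have e : t * (l * b * l⁻¹) * t⁻¹ = l * (t * b * t) * l⁻¹ := by
        have e1 : l⁻¹ * t = t * l⁻¹ := by rw [inv_mul_eq_iff_eq_mul, ← mul_assoc, ← hKt l hl, mul_assoc, mul_inv_cancel, mul_one]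
        rw [D.tinv]
        calc t * (l * b * l⁻¹) * t = (t * l) * b * (l⁻¹ * t) := by group
          _ = (l * t) * b * (t * l⁻¹) := by rw [hKt l hl, e1]
          _ = l * (t * b * t) * l⁻¹ := by group
      rw [e]
      exact (D.comm k hk l hl a ha b hb).symm
    intro b hb
    have h3 := h2 hb
    rw [mem_comap, mem_centralizer_singleton_iff] at h3
    have h4 : t * b * t⁻¹ * (k * a * k⁻¹) = k * a * k⁻¹ * (t * b * t⁻¹) := h3
    rw [D.tinv] at h4
    exact h4.symm
  have h2 : span K A ≤ centralizer ({t * b * t} : Set G) := by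
    refine span_le fun k hk => ?_
    rintro _ ⟨c, hc, rfl⟩
    rw [mem_centralizer_singleton_iff]
    exact h1 k hk c hc b hb
  exact mem_centralizer_singleton_iff.1 (h2 ha)

/-- **Case A.** -/
theorem aData [Finite G] : AData t K (span K A) X W where
  tt := D.tt
  Kt := D.Kt
  cK := D.cK
  tK := D.tK
  simp := D.simp
  perf := D.perf
  K1p := by
    apply le_antisymm
    · rw [commutator_le]
      intro a ha b hb
      rw [commutatorElement_def]
      exact mul_mem (mul_mem (mul_mem ha hb) (inv_mem ha)) (inv_mem hb)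
    · refine span_le fun k hk => ?_
      have h1 : cj k (span K A) = span K A := by
        apply le_antisymm (cj_span hk)
        have h2 := cj_mono (g := k) (cj_span (A := A) (inv_mem hk))
        rwa [cj_cj_inv] at h2
      calc cj k A ≤ cj k ⁅span K A, span K A⁆ := cj_mono D.perfA
        _ = ⁅cj k (span K A), cj k (span K A)⁆ := (cj_commutator k _).symm
        _ = ⁅span K A, span K A⁆ := by rw [h1]
  K1n := by
    intro h
    have h1 : A = ⊥ := by
      rw [eq_bot_iff, ← h]; exact le_span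
    have h2 := D.card
    rw [h1, card_bot, D.cardW] at h2
    have h3 : Nat.card X = 1 := Nat.eq_one_of_mul_eq_one_right h2.symm
    exact D.X1 (card_eq_one.1 h3)
  K12 a ha b hb := D.comm_span ha hb
  K1K := by
    -- the set of all `k (t k t)` is a subgroup
    let H : Subgroup G :=
      { carrier := {x | ∃ k ∈ span K A, x = k * (t * k * t)}
        one_mem' := ⟨1, one_mem _, by rw [mul_one, D.tt, one_mul]⟩
        mul_mem' := by
          rintro _ _ ⟨a, ha, rfl⟩ ⟨b, hb, rfl⟩
          refine ⟨a * b, mul_mem ha hb, ?_⟩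
          have h1 := D.comm_span hb ha
          calc a * (t * a * t) * (b * (t * b * t)) = a * ((t * a * t) * b) * (t * b * t) := by group
            _ = a * (b * (t * a * t)) * (t * b * t) := by rw [h1]
            _ = a * b * (t * a * (t * t) * b * t) := by group
            _ = a * b * (t * (a * b) * t) := by rw [D.tt]; group
        inv_mem' := by
          rintro _ ⟨a, ha, rfl⟩
          refine ⟨a⁻¹, inv_mem ha, ?_⟩
          have h1 := D.comm_span ha ha
          rw [h1, mul_inv_rev]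
          calc a⁻¹ * (t * a * t)⁻¹ = a⁻¹ * (t⁻¹ * a⁻¹ * t⁻¹) := by group
            _ = a⁻¹ * (t * a⁻¹ * t) := by rw [D.tinv] }
    have hinv : ∀ k ∈ K, ∀ x ∈ H, k * x * k⁻¹ ∈ H := by
      rintro k hk _ ⟨a, ha, rfl⟩
      refine ⟨k * a * k⁻¹, cj_span hk (cj_mem ha), ?_⟩
      have hkt := D.Kt k hk
      have e1 : k⁻¹ * t = t * k⁻¹ := by rw [inv_mul_eq_iff_eq_mul, ← mul_assoc, hkt, mul_inv_cancel_right]
      calc k * (a * (t * a * t)) * k⁻¹ = k * a * (t * a * (t * k⁻¹)) := by group
        _ = k * a * (t * a * (k⁻¹ * t)) := by rw [e1]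
        _ = k * a * k⁻¹ * ((k * t) * a * k⁻¹ * t) := by group
        _ = k * a * k⁻¹ * ((t * k) * a * k⁻¹ * t) := by rw [hkt]
        _ = k * a * k⁻¹ * (t * (k * a * k⁻¹) * t) := by group
    have hX : X ≤ H := by
      intro x hx
      obtain ⟨a, ha, b, hb, e⟩ := D.exists_mul (D.XW hx)
      -- `x` commutes with `t`
      have hxt := D.Kt x (D.XK hx)
      have h1 : a * (t * b * t) = b * (t * a * t) := by
        have h2 : t * x * t = x := by rw [← hxt, mul_assoc, D.tt, mul_one]
        have h3 : t * x * t = (t * a * t) * b := by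
          rw [e]
          calc t * (a * (t * b * t)) * t = (t * a * t) * b * (t * t) := by group
            _ = _ := by rw [D.tt, mul_one]
        rw [← e, ← h2, h3]
        exact (D.Wab _ (D.Wt _ (D.AW ha)) _ (D.AW hb))
      have h2 : b⁻¹ * a = t * (a * b⁻¹) * t := by
        rw [inv_mul_eq_iff_eq_mul]
        calc a = a * (t * b * t) * (t * b * t)⁻¹ := by group
          _ = b * (t * a * t) * (t * b * t)⁻¹ := by rw [h1]
          _ = b * (t * (a * b⁻¹) * t⁻¹) := by group
          _ = b * (t * (a * b⁻¹) * t) := by rw [D.tinv]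
      have h3 : a * b⁻¹ = 1 := by
        apply D.inf _ (mul_mem ha (inv_mem hb))
        rw [← h2]
        exact mul_mem (inv_mem hb) ha
      have h4 : a = b := mul_inv_eq_one.1 h3
      exact ⟨a, le_span ha, by rw [e, ← h4]⟩
    intro x hx
    have h1 : span K X ≤ H := by
      refine span_le fun k hk => ?_
      rintro _ ⟨y, hy, rfl⟩
      exact hinv k hk y (hX hy)
    exact h1 (D.gen hx)
  XK := D.XK
  X1 := D.X1
  Xsq := D.Xsq
  WE := by
    intro w hw
    obtain ⟨a, ha, b, hb, rfl⟩ := D.exists_mul hw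
    refine mul_mem (mem_sup_left (le_span ha)) (mem_sup_right ?_)
    rw [mem_cj, D.tinv]
    have e : t * (t * b * t) * t = b := by
      calc t * (t * b * t) * t = (t * t) * b * (t * t) := by group
        _ = b := by rw [D.tt, one_mul, mul_one]
    rw [e]
    exact le_span hb
  EW := by
    intro H hH
    refine span_le fun k hk => ?_
    rintro _ ⟨a, ha, rfl⟩
    exact hH k hk a (D.AW ha)
  cardW := D.cardW
  can := D.can

/-- **Case A does not occur in a perfect group.** -/
theorem false_of_perfect [Finite G] (hG : commutator G = ⊤) : False := D.aData.false_of_perfect hG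

end Hyp

end Cfsg.Agent.OddHalf.D7End.Half
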