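import Cfsg.Agent.OddHalf.D7End.FrameA
import Cfsg.Agent.OddHalf.D7End.FrameB
import Cfsg.Agent.OddHalf.SL.PreOf
import Cfsg.Agent.OddHalf.D7Out.FrOf
import Cfsg.Agent.OddHalf.D7Out.Outer
import Cfsg.Agent.KFacts.SLRow.Def

/-!
# The end for simply laced `K` (helper163, bb ODD 9501)

`D : Datum ⊤ q cs h T₀ n X` in `↥K`, `X̃ r` the images in `G`.

* `exists_rep` : the roots are conjugate; `dat` : the datum in `G`;
* `canOf` : `Can`; `conj_V` : equivariance of the doubled root groups;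
* `fra` : the frame `FrameB.Fra`.
-/

set_option autoImplicit false
set_option linter.unusedSectionVars false

namespace Cfsg.Agent.OddHalf.D7End.Inst

open CoxeterSystem Cfsg.Agent.ChevalleyStructure.CoxeterGeom Cfsg.Agent.Tits.Roots Cfsg.Agent.Tits.Core
  Cfsg.Agent.Tits.RootComb Cfsg.Agent.Tits.Exchange Cfsg.Agent.Nodes.Comb Cfsg.Agent.Nodes.Reps
  Cfsg.Agent.Nodes.BNOf Cfsg.Agent.Nodes.StabComb
  Cfsg.Agent.Nodes.Bruhat Cfsg.Agent.Nodes.Coroot Cfsg.Agent.OddHalf.SL.Index Cfsg.Agent.OddHalf.SL.OfRGD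
  Cfsg.Agent.OddHalf.SL.PreOf Cfsg.Agent.KFacts.RgdSL Cfsg.Agent.KFacts.RgdTI Cfsg.Agent.KFacts.RgdCent
  Cfsg.Agent.KFacts.SLRow.Def Cfsg.Agent.OddHalf.D7End.Canon Cfsg.Agent.OddHalf
  Cfsg.Agent.KFacts.RgdAut Cfsg.Agent.KFacts.RgdDiag Cfsg.Agent.KFacts.RgdField Cfsg.Agent.KFacts.RgdTau
open scoped commutatorElement

section Dat

variable {I : Type*} {W : Type*} {Y : Type*} [Fintype I] [DecidableEq I] [Group W] [Group Y] {M : CoxeterMatrix I}
  {K : Subgroup Y} {q : ℕ} {cs : CoxeterSystem M W} {A : I → I → ℤ} {h : IsCartan M A} {T : Subgroup Y}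
  {n : I → Y} {X : (I → ℤ) → Subgroup Y}

/-- the roots are conjugate -/
theorem exists_rep [Finite W] (D : Datum K q cs h T n X) {r₀ r : I → ℤ} (hr₀ : IsRoot cs h r₀)
    (hr : IsRoot cs h r) : ∃ w, rep cs h w r₀ = r := by
  have h2 : 2 ≤ Fintype.card I := by have := D.three; omega
  refine ind D.h4 D.h6 D.irr h2 (P := fun r => ∃ w, rep cs h w r₀ = r) hr₀ ⟨1, by
    rw [map_one, Module.End.one_apply]⟩ ?_ hr
  rintro _ s _ hs hrs ⟨w, rfl⟩
  have hR := roots cs h D.h4 D.h6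
  have hr' : IsRoot cs h (rep cs h w r₀) := hr₀.act w
  obtain ⟨s', hs'⟩ : ∃ s' : W, ∀ y, rep cs h s' y = y - cpr cs h y (rep cs h w r₀ - s) • (rep cs h w r₀ - s) := by
    obtain ⟨v, i, e⟩ := hR.sub_mem hr' hs hrs
    refine ⟨v * cs.simple i * v⁻¹, fun y => ?_⟩
    rw [rep_mul_apply, rep_mul_apply, rep_simple_eq, map_sub, rep_apply_inv, map_smul,
      ← cpr_rep_sr (cs := cs) (h := h), ← e]
  refine ⟨s'⁻¹ * w, ?_⟩
  rw [rep_mul_apply]
  have h3 := rep_sub D.h4 D.h6 hr' hs hrs hs'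
  rw [← h3, rep_inv_apply]

theorem Xnd [Finite W] (D : Datum K q cs h T n X) : ∀ r ∈ {x | IsRoot cs h x}, ∀ s ∈ {x | IsRoot cs h x},
    Bf A r s = -1 → ∀ x ∈ X r, ∀ y ∈ X s, x * y = y * x → x = 1 ∨ y = 1 := by
  intro r hr s hs hrs x hx y hy hxy
  by_contra hcon
  push Not at hcon
  exact (a2 D.h4 D.h6 hr hs hrs).comm_ne_one D.rgd hx hcon.1 hy hcon.2
    (commutatorElement_eq_one_iff_mul_comm.2 hxy)

theorem Xgen [Finite W] (D : Datum K q cs h T n X) : ∀ r ∈ {x | IsRoot cs h x}, ∀ s ∈ {x | IsRoot cs h x},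
    Bf A r s = -1 → X (r + s) ≤ ⁅X r, X s⁆ := by
  intro r hr s hs hrs z hz
  obtain ⟨u, hu⟩ := (Subgroup.ne_bot_iff_exists_ne_one).1 (SL.OfRGD.X_ne_bot D.rgd hr)
  obtain ⟨v, hv, e⟩ := (a2 D.h4 D.h6 hr hs hrs).comm_surj D.rgd u.2 (fun h1 => hu (Subtype.ext h1)) hz
  rw [← e]
  exact Subgroup.commutator_mem_commutator u.2 hv

theorem one [Finite W] (D : Datum K q cs h T n X) : ∀ r ∈ {x | IsRoot cs h x}, ∃ s ∈ {x | IsRoot cs h x},
    Bf A r s = 1 := by
  intro r hr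
  obtain ⟨s, hs, hrs⟩ := exists_neg_one D.h4 D.h6 D.irr D.three hr
  have hR := roots cs h D.h4 D.h6
  exact ⟨-s, hR.neg_mem s hs, by rw [hR.neg_right, hrs]; norm_num⟩

theorem Xdis [Finite W] (D : Datum K q cs h T n X) : ∀ r ∈ {x | IsRoot cs h x}, ∀ s ∈ {x | IsRoot cs h x},
    r ≠ s → X r ⊓ X s = ⊥ := fun _ hr _ hs hrs => Cfsg.Agent.Nodes.OppDec.X_inf_X D.rgd hr hs hrs

theorem hne [Finite W] : ∀ a ∈ {x | IsRoot cs h x}, hth a ≠ 0 := by
  intro a ha h0
  rcases ha.pos_or_neg with h1 | h1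
  · have := (hth_pos_iff ha).2 h1
    omega
  · have h2 : 0 < hth (-a) := (hth_pos_iff ha.neg).2 (neg_nonneg.2 h1)
    rw [map_neg] at h2
    omega

theorem gen' (D : Datum K q cs h T n X) : K ≤ ⨆ r ∈ {x | IsRoot cs h x}, X r := by
  rw [← D.gen]
  exact iSup_le fun z => le_iSup₂_of_le (f := fun r (_ : r ∈ {x | IsRoot cs h x}) => X r) z.1 z.2 le_rfl

end Dat

section Comp

variable {I : Type*} {W : Type*} [Fintype I] [DecidableEq I] [Group W] {M : CoxeterMatrix I}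
  {cs : CoxeterSystem M W} {A : I → I → ℤ} {h : IsCartan M A}

/-- a diagram symmetry acting on the root lattice -/
def comp (σ : Equiv.Perm I) : (I → ℤ) ≃+ (I → ℤ) where
  toFun x := x ∘ σ.symm
  invFun x := x ∘ σ
  left_inv x := by funext i; simp
  right_inv x := by funext i; simp
  map_add' _ _ := rfl

theorem comp_apply (σ : Equiv.Perm I) (x : I → ℤ) : comp σ x = x ∘ σ.symm := rfl

theorem bf_comp {σ : Equiv.Perm I} (hA : ∀ i j, A (σ i) (σ j) = A i j) (x y : I → ℤ) :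
    Bf A (comp σ x) (comp σ y) = Bf A x y := by
  unfold Bf
  rw [← Equiv.sum_comp σ]
  refine Finset.sum_congr rfl fun k _ => ?_
  rw [comp_apply, comp_apply, pairing_comp hA, Function.comp_apply, Equiv.symm_apply_apply]

theorem hth_comp (σ : Equiv.Perm I) (x : I → ℤ) : hth (comp σ x) = hth x := by
  rw [hth_apply, hth_apply]
  unfold ht
  rw [← Equiv.sum_comp σ]
  refine Finset.sum_congr rfl fun k _ => ?_
  rw [comp_apply, Function.comp_apply, Equiv.symm_apply_apply]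

theorem isRoot_comp {σ : Equiv.Perm I} (hσ : ∀ i j, M (σ i) (σ j) = M i j)
    (hA : ∀ i j, A (σ i) (σ j) = A i j) {r : I → ℤ} (hr : IsRoot cs h r) : IsRoot cs h (comp σ r) := by
  obtain ⟨w, i, rfl⟩ := hr
  rw [comp_apply, ← rep_hat hσ hA, sr_comp]
  exact ⟨_, _, rfl⟩

theorem isRoot_comp_iff {σ : Equiv.Perm I} (hσ : ∀ i j, M (σ i) (σ j) = M i j)
    (hA : ∀ i j, A (σ i) (σ j) = A i j) {r : I → ℤ} : IsRoot cs h (comp σ r) ↔ IsRoot cs h r := by
  refine ⟨fun hr => ?_, isRoot_comp hσ hA⟩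
  have h1 : ∀ k, σ (σ.symm k) = k := fun k => σ.apply_symm_apply k
  have h2 := isRoot_comp (cs := cs) (h := h) (σ := σ.symm) (fun i j => by rw [← hσ, h1, h1])
    (fun i j => by rw [← hA, h1, h1]) hr
  have h3 : comp σ.symm (comp σ r) = r := by
    funext i
    rw [comp_apply, comp_apply]
    simp
  rwa [h3] at h2

end Comp

section Main

variable {I : Type*} {W : Type*} [Fintype I] [DecidableEq I] [Group W] {M : CoxeterMatrix I}
  {cs : CoxeterSystem M W} {A : I → I → ℤ} {h : IsCartan M A}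
  {G : Type*} [Group G] {K : Subgroup G} {q : ℕ} {T₀ : Subgroup ↥K} {n : I → ↥K} {X : (I → ℤ) → Subgroup ↥K}
  {F : Type*} [Field F] {x : (I → ℤ) → F → ↥K} {χ : (I → ℤ) → ↥K → F} {hh : I → F → ↥K}
  {t : G} {U Z T : Subgroup G} {ρ : I → ℤ} {V : (I → ℤ) → Subgroup G}

/-- the image in `G` -/
def img (X : (I → ℤ) → Subgroup ↥K) (r : I → ℤ) : Subgroup G := (X r).map K.subtype

theorem img_le (r : I → ℤ) : img X r ≤ K := Subgroup.map_subtype_le _

/-- the datum in `G` -/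
theorem dat (D : Datum ⊤ q cs h T₀ n X) :
    Datum K q cs h (T₀.map K.subtype) (fun i => K.subtype (n i)) (img X) := by
  have := D.map K.subtype K.subtype_injective
  rwa [← MonoidHom.range_eq_map, Subgroup.range_subtype] at this

theorem t_notMem (E : D7Out.Defs.Fr t t K U Z T) : t ∉ K := fun h => E.t1 (E.KR t h E.tR)

theorem canOf [Finite W] (D : Datum ⊤ q cs h T₀ n X) (E : D7Out.Defs.Fr t t K U Z T)
    (Db : SL.Defs.Dbl t (Bf A) {x | IsRoot cs h x} (img X) V)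
    (K1 : ∀ r ∈ {x | IsRoot cs h x}, ∀ c, c * t = t * c →
      (∀ a ∈ {x | IsRoot cs h x}, 1 ≤ Bf A a r → ∀ x ∈ img X a, c * x = x * c) → c ∈ img X r ∨ t * c ∈ img X r) :
    Can t (Bf A) {x | IsRoot cs h x} (img X) V where
  roots := roots cs h D.h4 D.h6
  dbl := Db
  tX r _ ht := t_notMem E (img_le r ht)
  K1 := K1

/-- the doubled root groups are permuted by the representatives of the Weyl group -/
theorem conj_V [Finite W] (D : Datum ⊤ q cs h T₀ n X) (E : D7Out.Defs.Fr t t K U Z T)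
    (C : Can t (Bf A) {x | IsRoot cs h x} (img X) V) {w : W} {k : G} (hk : Rp cs (dat D).rgd.nsys w k)
    (hkK : k ∈ K) {r : I → ℤ} (hr : IsRoot cs h r) : CaseA.cj k (V r) = V (rep cs h w r) := by
  have key : ∀ {w : W} {k : G}, Rp cs (dat D).rgd.nsys w k → k ∈ K → ∀ {r : I → ℤ}, IsRoot cs h r →
      ∀ v ∈ V r, k * v * k⁻¹ ∈ V (rep cs h w r) := by
    intro w k hk hkK r hr v hv
    have hkt : k * t = t * k := D7Out.Front.Kt E hkK
    refine C.conj hr (hr.act w) hkt (fun y hy => ?_) (fun b hb h1 => ?_) hv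
    · have h2 := (dat D).rgd.conj_rp hk hr
      rw [← h2]
      exact conj_mem_cj.2 hy
    · refine ⟨rep cs h w⁻¹ b, hb.act _, ?_, fun y hy => ?_⟩
      · have h2 : Bf A (rep cs h w⁻¹ b) r = Bf A b (rep cs h w r) := by
          rw [← bf_rep (cs := cs) (h := h) D.h4 D.h6 w, rep_apply_inv]
        rw [h2]; omega
      · have h2 := (dat D).rgd.conj_rp hk.inv hb
        rw [← h2, mem_cj]
        have e : k⁻¹⁻¹ * (k⁻¹ * y * k) * k⁻¹ = y := by group
        rw [e]; exact hy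
  apply le_antisymm
  · rintro _ ⟨v, hv, rfl⟩
    exact key hk hkK hr v hv
  · intro v hv
    rw [CaseA.mem_cj]
    have h2 := key hk.inv (inv_mem hkK) (hr.act w) v hv
    rw [rep_inv_apply] at h2
    have e : k⁻¹ * v * k⁻¹⁻¹ = k⁻¹ * v * k := by group
    rwa [e] at h2

theorem rp_mem (D : Datum ⊤ q cs h T₀ n X) {w : W} {k : G} (hk : Rp cs (dat D).rgd.nsys w k) : k ∈ K := by
  rw [← (dat D).GG_eq]
  exact NN_le_GG (dat D).rgd ⟨_, hk⟩

/-- the frame -/
theorem fra [Finite G] [Finite W] [Nonempty I] [CharP F 2] (D : Datum ⊤ q cs h T₀ n X)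
    (E : D7Out.Defs.Fr t t K U Z T) (C : Can t (Bf A) {x | IsRoot cs h x} (img X) V)
    (hU : U = (RGD.Sup X (RGD.Pos cs h)).map K.subtype) (hρ : IsRoot cs h ρ) (hd : ∀ i, 0 ≤ cpr cs h (sr i) ρ)
    (g : ↥T → Equiv.Perm I × (F ≃+* F))
    (hg : ∀ y : ↥T, ∃ u ∈ RGD.Sup X (RGD.Pos cs h), Tau T₀ X χ A (MulAut.conj u * D7Out.Outer.act E y) (g y).1 (g y).2) :
    FrameB.Fra t K T (Bf A) {x | IsRoot cs h x} hth (img X) V ρ := by
  have hUe : SL.Bridge.pos hth {x | IsRoot cs h x} (img X) = U := by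
    rw [pos_eq, hU]
    unfold RGD.Sup
    rw [Subgroup.map_iSup]
    rfl
  exact
    { can := C
      Xne := fun r hr => SL.OfRGD.X_ne_bot (dat D).rgd hr
      Xdis := Xdis (dat D)
      dir := dir D.h4 D.h6 (dat D).rgd
      hne := hne
      Kt := fun x hx => D7Out.Front.Kt E hx
      tK := t_notMem E
      pT := E.pT
      tT := E.vT
      tc := E.tc
      max := E.max
      TK := by rw [hUe, E.U_eq]
      ρΦ := hρ
      ρpos := (hth_pos_iff hρ).2 (D7Out.FrOf.rho_pos hρ hd).2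
      dom := fun a ha h0 => by
        rw [bf_eq_cpr D.h4 D.h6 _ hρ]
        exact D7Out.FrOf.dom_nonneg hρ hd ((hth_pos_iff ha).1 h0)
      frame := by
        intro y hy
        obtain ⟨u, hu, S⟩ := hg ⟨y, hy⟩
        have hσ := S.diag.matrix D.rgd
        refine ⟨u, ?_, comp (g ⟨y, hy⟩).1, fun a => isRoot_comp_iff hσ S.cartan, fun a _ b _ => bf_comp S.cartan a b,
          fun a _ => hth_comp _ a, fun a ha v => ?_⟩
        · rw [hUe, hU]
          exact ⟨u, hu, rfl⟩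
        · have h1 := Diag.root_comp D.rgd S.diag S.cartan ha
          have hcomp : ∀ v : ↥K, (((MulAut.conj u * D7Out.Outer.act E ⟨y, hy⟩) v : ↥K) : G) =
              (u : G) * y * v * ((u : G) * y)⁻¹ := by
            intro v
            show (u : G) * (y * v * y⁻¹) * (u : G)⁻¹ = _
            group
          constructor
          · rintro ⟨v, hv, rfl⟩
            refine ⟨_, (h1 v).2 hv, hcomp v⟩
          · rintro ⟨w, hw, e⟩
            obtain ⟨v', rfl⟩ := (MulAut.conj u * D7Out.Outer.act E ⟨y, hy⟩).surjective w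
            refine ⟨v', (h1 v').1 hw, ?_⟩
            have e' : (((MulAut.conj u * D7Out.Outer.act E ⟨y, hy⟩) v' : ↥K) : G) = (u : G) * y * v * ((u : G) * y)⁻¹ := e
            rw [hcomp] at e'
            have e2 := mul_right_cancel e'
            exact mul_left_cancel e2 }

/-- `K` is transitive on the pairs (root group, doubled root group) -/
theorem trans [Finite W] (D : Datum ⊤ q cs h T₀ n X) (E : D7Out.Defs.Fr t t K U Z T)
    (C : Can t (Bf A) {x | IsRoot cs h x} (img X) V) (hρ : IsRoot cs h ρ) :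
    ∀ r ∈ {x | IsRoot cs h x}, ∃ k ∈ K, CaseA.cj k (img X ρ) = img X r ∧ CaseA.cj k (V ρ) = V r := by
  intro r hr
  obtain ⟨w, rfl⟩ := exists_rep D hρ hr
  obtain ⟨k, hk⟩ := exists_rp cs (dat D).rgd.nsys w
  exact ⟨k, rp_mem D hk, (dat D).rgd.conj_rp hk hρ, conj_V D E C hk (rp_mem D hk) hρ⟩

theorem P2_all [Finite W] (D : Datum ⊤ q cs h T₀ n X) (E : D7Out.Defs.Fr t t K U Z T)
    (C : Can t (Bf A) {x | IsRoot cs h x} (img X) V) (hρ : IsRoot cs h ρ)
    (P2 : ∃ P ≤ K, ⁅P, P⁆ = P ∧ img X ρ ≤ P ∧ ∀ x ∈ P, ∀ p ∈ img X ρ, x * p = p * x) :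
    ∀ a ∈ {x | IsRoot cs h x}, ∃ P ≤ K, ⁅P, P⁆ = P ∧ img X a ≤ P ∧ ∀ x ∈ P, ∀ p ∈ img X a, x * p = p * x := by
  intro a ha
  obtain ⟨k, hk, hkX, -⟩ := trans D E C hρ a ha
  obtain ⟨P, hPK, hPP, hXP, hc⟩ := P2
  refine ⟨CaseA.cj k P, ?_, ?_, ?_, ?_⟩
  · rintro _ ⟨x, hx, rfl⟩
    exact mul_mem (mul_mem hk (hPK hx)) (inv_mem hk)
  · rw [CaseA.cj_commutator, hPP]
  · rw [← hkX]
    exact CaseA.cj_mono hXP
  · rintro _ ⟨x, hx, rfl⟩ p hp
    rw [← hkX, CaseA.mem_cj] at hp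
    show k * x * k⁻¹ * p = p * (k * x * k⁻¹)
    have h1 := hc x hx _ hp
    calc k * x * k⁻¹ * p = k * (x * (k⁻¹ * p * k)) * k⁻¹ := by group
      _ = k * (k⁻¹ * p * k * x) * k⁻¹ := by rw [h1]
      _ = p * (k * x * k⁻¹) := by group

/-- **Case A.** -/
theorem false_A [Finite G] [Finite W] (hG : commutator G = ⊤) (D : Datum ⊤ q cs h T₀ n X)
    (E : D7Out.Defs.Fr t t K U Z T) (C : Can t (Bf A) {x | IsRoot cs h x} (img X) V) (hρ : IsRoot cs h ρ)
    (simp : ∀ L ≤ K, (∀ k ∈ K, ∀ l ∈ L, k * l * k⁻¹ ∈ L) → L = ⊥ ∨ L = K)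
    (perf : ∀ P : Subgroup G, ⁅P, P⁆ = P → (∀ x ∈ P, x * t = t * x) → P ≤ K)
    {H : Subgroup G} (AV : H ≤ V ρ) (inf : ∀ a ∈ H, t * a * t ∈ H → a = 1)
    (card : Nat.card H * Nat.card H = Nat.card (V ρ))
    (nrm : ∀ k ∈ K, CaseA.cj k (img X ρ) = img X ρ → CaseA.cj k H ≤ H)
    (br : ∀ r ∈ {x | IsRoot cs h x}, ∀ s ∈ {x | IsRoot cs h x}, Bf A r s = -1 →
      ∀ k ∈ K, CaseA.cj k (img X ρ) = img X r → ∀ l ∈ K, CaseA.cj l (img X ρ) = img X s →
      ∀ a ∈ H, ∀ b ∈ H, (k * a * k⁻¹) * (l * (t * b * t) * l⁻¹) = (l * (t * b * t) * l⁻¹) * (k * a * k⁻¹)) :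
    False := by
  have k1 : K ≤ ⨆ r ∈ {x | IsRoot cs h x}, img X r := gen' (dat D)
  have k2 : ∀ r ∈ {x | IsRoot cs h x}, img X r ≠ ⊥ := fun r hr => SL.OfRGD.X_ne_bot (dat D).rgd hr
  have k3 := Xnd (dat D)
  have k4 := Xgen (dat D)
  have k5 : ∀ r ∈ {x | IsRoot cs h x}, ∀ s ∈ {x | IsRoot cs h x}, Bf A r s = 1 →
      ∃ m ∈ {x | IsRoot cs h x}, Bf A m r = 1 ∧ Bf A m s = 1 := three D.h4 D.h6 D.irr D.three
  have k6 := one D
  have k7 : ∀ x ∈ K, x * t = t * x := fun x hx => D7Out.Front.Kt E hx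
  have k8 := trans D E C hρ
  have k0 : ρ ∈ {x | IsRoot cs h x} := hρ
  have k9 : ∀ c, c * t = t * c → (∀ x ∈ K, x * c = c * x) → c = 1 ∨ c = t := by
    intro c hct hc
    have h1 := E.cK c hct hc
    obtain ⟨i, rfl⟩ := Subgroup.mem_zpowers_iff.1 h1
    rcases Int.even_or_odd' i with ⟨j, rfl | rfl⟩
    · left
      rw [zpow_mul, show t ^ (2 : ℤ) = 1 by rw [zpow_two]; exact E.tt, one_zpow]
    · right
      rw [zpow_add, zpow_mul, show t ^ (2 : ℤ) = 1 by rw [zpow_two]; exact E.tt, one_zpow, one_mul, zpow_one]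
  have key := FrameA.hyp (t := t) (K := K) (B := Bf A) (Φ := {x | IsRoot cs h x}) (X := img X) (V := V) (ρ := ρ) (A := H)
    k0 C (fun r _ => img_le r) k1 k2 k3 k4 k5 k6 k7 k9 (t_notMem E) simp perf k8 AV inf card nrm br
  exact key.false_of_perfect hG

/-- the homomorphism `δ` -/
theorem exists_delta [Finite W] (D : Datum ⊤ q cs h T₀ n X) (hM : D7Out.Outer.DiagTwo M)
    (E : D7Out.Defs.Fr t t K U Z T) (g : ↥T →* Equiv.Perm I × (F ≃+* F))
    (hg : ∀ y : ↥T, ∃ u ∈ RGD.Sup X (RGD.Pos cs h), Tau T₀ X χ A (MulAut.conj u * D7Out.Outer.act E y) (g y).1 (g y).2)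
    {B : Type*} [CommGroup B] {ι : B} (hι : ι * ι = 1) :
    ∃ δ : ↥T →* B, ∀ y, ((g y).1 = 1 → δ y = 1) ∧ ((g y).1 ≠ 1 → δ y = ι) := by
  classical
  have key : ∀ y y' : ↥T, (g y).1 ≠ 1 → (g y').1 ≠ 1 → (g (y * y')).1 = 1 := by
    intro y y' hy hy'
    have h1 := D7Out.Outer.diag_eq D.rgd hM E g hg hy hy'
    have e : (g (y * y')).1 = (g (y * y)).1 := by
      rw [map_mul, map_mul, Prod.fst_mul, Prod.fst_mul, h1]
    rw [e]
    by_contra hne
    have h2 := D7Out.Outer.diag_eq D.rgd hM E g hg hy hne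
    rw [map_mul, Prod.fst_mul] at h2
    exact hy (left_eq_mul.1 h2)
  refine ⟨MonoidHom.mk' (fun y => if (g y).1 = 1 then 1 else ι) ?_, fun y => ⟨fun h => if_pos h, fun h => if_neg h⟩⟩
  intro y y'
  by_cases hy : (g y).1 = 1
  · have e : (g (y * y')).1 = (g y').1 := by rw [map_mul, Prod.fst_mul, hy, one_mul]
    rw [e, if_pos hy, one_mul]
  · by_cases hy' : (g y').1 = 1
    · have e : (g (y * y')).1 = (g y).1 := by rw [map_mul, Prod.fst_mul, hy', mul_one]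
      rw [e, if_pos hy', mul_one]
    · rw [if_pos (key y y' hy hy'), if_neg hy, if_neg hy', hι]

/-- **Case B.** -/
theorem false_B [Finite G] [Finite W] [Nonempty I] [CharP F 2] (hG : commutator G = ⊤)
    (D : Datum ⊤ q cs h T₀ n X) (hM : D7Out.Outer.DiagTwo M)
    (E : D7Out.Defs.Fr t t K U Z T) (C : Can t (Bf A) {x | IsRoot cs h x} (img X) V)
    (hU : U = (RGD.Sup X (RGD.Pos cs h)).map K.subtype) (hρ : IsRoot cs h ρ) (hd : ∀ i, 0 ≤ cpr cs h (sr i) ρ)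
    (Co : Coords cs h T₀ n X x χ) (g : ↥T →* Equiv.Perm I × (F ≃+* F))
    (hg : ∀ y : ↥T, (∃ u ∈ RGD.Sup X (RGD.Pos cs h),
      Tau T₀ X χ A (MulAut.conj u * D7Out.Outer.act E y) (g y).1 (g y).2) ∧
      (g y = 1 ↔ ∃ r ∈ Subgroup.zpowers t, ∃ u ∈ U, (y : G) = r * u))
    (perf : ∀ P : Subgroup G, ⁅P, P⁆ = P → (∀ x ∈ P, x * t = t * x) → P ≤ K)
    (P2 : ∃ P ≤ K, ⁅P, P⁆ = P ∧ img X ρ ≤ P ∧ ∀ x ∈ P, ∀ p ∈ img X ρ, x * p = p * x)
    {B : Type*} [CommGroup B] (θ : ↥T →* B)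
    (hθ : ∀ x : ↥T, θ x = 1 ↔ ∀ v ∈ V ρ, (x : G) * v = v * x)
    (hθ2 : ∀ x : ↥T, θ (x * x) = 1 → θ x = 1 ∨ θ x = θ ⟨t, E.vT⟩) : False := by
  have Fr := fra D E C hU hρ hd g fun y => (hg y).1
  have hUe : SL.Bridge.pos hth {x | IsRoot cs h x} (img X) = U := by
    rw [pos_eq, hU]
    unfold RGD.Sup
    rw [Subgroup.map_iSup]
    rfl
  have hι : θ ⟨t, E.vT⟩ * θ ⟨t, E.vT⟩ = 1 := by
    rw [← map_mul, ← map_one θ]
    congr 1
    exact Subtype.ext E.tt
  obtain ⟨δ, hδ⟩ := exists_delta D hM E g (fun y => (hg y).1) hι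
  have hgU : ∀ y : ↥T, (y : G) ∈ U → g y = 1 := fun y hy =>
    (hg y).2.2 ⟨1, one_mem _, y, hy, (one_mul _).symm⟩
  have hgt : g ⟨t, E.vT⟩ = 1 := (hg _).2.2 ⟨t, Subgroup.mem_zpowers t, 1, one_mem _, (mul_one _).symm⟩
  obtain ⟨θ', δ', Bd⟩ := Fr.bData θ δ hθ hθ2 (fun y => by
      by_cases hy : (g y).1 = 1
      · exact Or.inl ((hδ y).1 hy)
      · exact Or.inr ((hδ y).2 hy))
    ((hδ _).1 (by rw [hgt]; rfl))
    (fun y hy hyU => (hδ _).1 (by rw [hgU ⟨y, hy⟩ (by rw [← hUe]; exact hyU)]; rfl))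
    (by
      intro y h1 h2
      rw [hUe]
      have h3 : (g y).1 = 1 := by
        by_contra hne
        -- `δ y = ι ≠ 1`
        have h4 := (hδ y).2 hne
        rw [h4, hθ] at h2
        obtain ⟨z, hz⟩ := (Subgroup.ne_bot_iff_exists_ne_one).1 (SL.OfRGD.X_ne_bot (dat D).rgd hρ)
        obtain ⟨w, hw, e⟩ := C.dbl.surj ρ hρ z z.2
        apply hz
        apply Subtype.ext
        have h5 : t * w = w * t := h2 w hw
        rw [← e, h5, mul_assoc w, E.tt, mul_one, inv_mul_cancel]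
        rfl
      -- the field part is trivial
      obtain ⟨u, hu, S⟩ := (hg y).1
      have huU : (u : G) ∈ SL.Bridge.pos hth {x | IsRoot cs h x} (img X) := by
        rw [hUe, hU]; exact ⟨u, hu, rfl⟩
      have h4 : (g y).2 = 1 := by
        obtain ⟨c, hc, e⟩ := Tau.root D.rgd Co S hρ
        have h5 : ∀ a, x ρ a = x ρ (c * (g y).2 a) := by
          intro a
          have h6 := e a
          rw [h3] at h6
          have h7 : ρ ∘ (Equiv.symm (1 : Equiv.Perm I)) = ρ := rfl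
          rw [h7] at h6
          rw [← h6]
          -- `conj u * act y` is trivial on `X ρ`
          have hxa : x ρ a ∈ X ρ := ((Co.coord ρ hρ).mem _).2 ⟨a, rfl⟩
          apply Subtype.ext
          have h8 : ((x ρ a : ↥K) : G) ∈ img X ρ := ⟨_, hxa, rfl⟩
          have h9 := (hθ y).1 h1 _ (C.dbl.XW ρ hρ h8)
          have h10 := Fr.cent (Fr.UU huU) (C.dbl.XW ρ hρ h8)
          show (x ρ a : G) = (u : G) * ((y : G) * (x ρ a : G) * (y : G)⁻¹) * (u : G)⁻¹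
          rw [h9, mul_inv_cancel_right, h10, mul_inv_cancel_right]
        have h6 : ∀ a, a = c * (g y).2 a := fun a => (Co.coord ρ hρ).inj (h5 a)
        have hc1 : c = 1 := by
          have := h6 1
          rw [map_one, mul_one] at this
          exact this.symm
        refine RingEquiv.ext fun a => ?_
        have := h6 a
        rw [hc1, one_mul] at this
        exact this.symm
      obtain ⟨r, hr, u', hu', e⟩ := (hg y).2.1 (Prod.ext h3 h4)
      have hrt : r = 1 ∨ r = t := by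
        obtain ⟨i, rfl⟩ := Subgroup.mem_zpowers_iff.1 hr
        rcases Int.even_or_odd' i with ⟨j, rfl | rfl⟩
        · left
          rw [zpow_mul, show t ^ (2 : ℤ) = 1 by rw [zpow_two]; exact E.tt, one_zpow]
        · right
          rw [zpow_add, zpow_mul, show t ^ (2 : ℤ) = 1 by rw [zpow_two]; exact E.tt, one_zpow, one_mul, zpow_one]
      rcases hrt with hrt | hrt
      · rw [e, hrt, one_mul]; exact hu'
      · exfalso
        rw [hrt] at e
        -- `t = y u'⁻¹` centralises `V ρ`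
        obtain ⟨z, hz⟩ := (Subgroup.ne_bot_iff_exists_ne_one).1 (SL.OfRGD.X_ne_bot (dat D).rgd hρ)
        obtain ⟨w, hw, e'⟩ := C.dbl.surj ρ hρ z z.2
        apply hz
        apply Subtype.ext
        have h5 : t * w = w * t := by
          have h6 := (hθ y).1 h1 w hw
          have h7 := Fr.cent (Fr.UU (by rw [hUe]; exact hu')) hw
          rw [e] at h6
          have h8 : t * w * u' = w * t * u' := by
            calc t * w * u' = t * (w * u') := by group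
              _ = t * (u' * w) := by rw [h7]
              _ = t * u' * w := by group
              _ = w * (t * u') := h6
              _ = w * t * u' := by group
          exact mul_right_cancel h8
        rw [← e', h5, mul_assoc w, E.tt, mul_one, inv_mul_cancel]
        rfl)
    perf (fun a ha _ => P2_all D E C hρ P2 a ha)
  exact Bd.false_of_perfect hG

end Main

end Cfsg.Agent.OddHalf.D7End.Inst
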