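import Cfsg.Agent.OddHalf.D7End.Inst
import Cfsg.Agent.OddHalf.D7Out.RingSL
import Cfsg.Agent.OddHalf.D7Out.FrontSL

/-!
# The end of the outer part for simply laced `K` (helper163, bb ODD 9501)

`O : FrontSL.Out ..` the output of the front, `Db` the doubled root groups, (K1) for `C(t)`: **`false_of`** a perfect group
`G` does not exist.
-/

set_option autoImplicit false
set_option linter.unusedSectionVars false

namespace Cfsg.Agent.OddHalf.D7End.Main

open CoxeterSystem Cfsg.Agent.ChevalleyStructure.CoxeterGeom Cfsg.Agent.Tits.Roots Cfsg.Agent.Tits.Core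
  Cfsg.Agent.Tits.RootComb Cfsg.Agent.Tits.Exchange Cfsg.Agent.Nodes.Comb Cfsg.Agent.Nodes.Reps
  Cfsg.Agent.Nodes.BNOf Cfsg.Agent.Nodes.StabComb
  Cfsg.Agent.Nodes.Bruhat Cfsg.Agent.Nodes.Coroot Cfsg.Agent.OddHalf.SL.Index Cfsg.Agent.OddHalf.SL.OfRGD
  Cfsg.Agent.OddHalf.SL.PreOf Cfsg.Agent.KFacts.RgdSL Cfsg.Agent.KFacts.RgdTI Cfsg.Agent.KFacts.RgdCent
  Cfsg.Agent.KFacts.SLRow.Def Cfsg.Agent.OddHalf.D7End.Canon Cfsg.Agent.OddHalf Cfsg.Agent.OddHalf.D7End.Inst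
  Cfsg.Agent.KFacts.RgdAut Cfsg.Agent.KFacts.RgdDiag Cfsg.Agent.KFacts.RgdField Cfsg.Agent.KFacts.RgdTau
  Cfsg.Agent.KFacts.RgdSys Cfsg.Agent.KFacts.ChevTwo
open scoped commutatorElement

variable {I : Type*} {W : Type*} [Fintype I] [DecidableEq I] [Group W] {M : CoxeterMatrix I}
  {cs : CoxeterSystem M W} {A : I → I → ℤ} {h : IsCartan M A}
  {G : Type*} [Group G] {K : Subgroup G} {q : ℕ} {T₀ : Subgroup ↥K} {n : I → ↥K} {X : (I → ℤ) → Subgroup ↥K}
  {F : Type*} [Field F] {x : (I → ℤ) → F → ↥K} {χ : (I → ℤ) → ↥K → F}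
  {t : G} {U Z T : Subgroup G} {ρ : I → ℤ} {V : (I → ℤ) → Subgroup G}

/-- the torus is abelian -/
theorem tab (D : Datum ⊤ q cs h T₀ n X) (Co : Coords cs h T₀ n X x χ) :
    ∀ s ∈ T₀.map K.subtype, ∀ u ∈ T₀.map K.subtype, s * u = u * s := by
  rintro _ ⟨s, hs, rfl⟩ _ ⟨u, hu, rfl⟩
  have h1 : s * u * s⁻¹ * u⁻¹ = 1 := by
    apply D.cent _ (mul_mem (mul_mem (mul_mem hs hu) (inv_mem hs)) (inv_mem hu))
    intro b hb y hy
    obtain ⟨a, rfl⟩ := ((Co.coord b hb).mem y).1 hy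
    have C := Co.coord b hb
    have e1 : ∀ w ∈ T₀, ∀ a, w⁻¹ * x b a * w = x b ((χ b w)⁻¹ * a) := by
      intro w hw a
      have h2 := C.act w hw ((χ b w)⁻¹ * a)
      rw [mul_inv_cancel_left₀ (C.chi_ne_zero hw)] at h2
      rw [← h2]; group
    have e2 : s * u * s⁻¹ * u⁻¹ * x b a * (s * u * s⁻¹ * u⁻¹)⁻¹ = x b a := by
      calc s * u * s⁻¹ * u⁻¹ * x b a * (s * u * s⁻¹ * u⁻¹)⁻¹
          = s * (u * (s⁻¹ * (u⁻¹ * x b a * u) * s) * u⁻¹) * s⁻¹ := by group
        _ = x b a := by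
          rw [e1 u hu, e1 s hs, C.act u hu, C.act s hs]
          congr 1
          have h3 := C.chi_ne_zero hs
          have h4 := C.chi_ne_zero hu
          field_simp
    exact mul_inv_eq_iff_eq_mul.1 e2
  have h2 : s * u = u * s := by
    have := mul_inv_eq_one.1 h1
    rw [mul_inv_eq_iff_eq_mul] at this
    exact this
  show (s : G) * u = u * s
  exact congrArg Subtype.val h2

/-- the doubled root groups of `Can` are those of `YData` -/
theorem yData [Finite W] (D : Datum ⊤ q cs h T₀ n X) (E : D7Out.Defs.Fr t t K U Z T)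
    (C : Can t (Bf A) {x | IsRoot cs h x} (img X) V) : YData (dat D).rgd t V where
  XW := C.dbl.XW
  ab r hr v hv w hw := C.comm hr hv hw
  brk := C.dbl.brk
  cent r hr w hw h1 := (C.dbl.cent r hr w hw).1 h1
  surj := C.dbl.surj
  WX r hr a ha h0 w hw y hy := C.VX hr ha h0 hw hy
  eqv w k hk r hr v hv := by
    rw [← conj_V D E C hk (rp_mem D hk) hr]
    exact CaseA.cj_mem hv

theorem hyp [Finite W] (D : Datum ⊤ q cs h T₀ n X) (E : D7Out.Defs.Fr t t K U Z T)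
    (C : Can t (Bf A) {x | IsRoot cs h x} (img X) V) (Co : Coords cs h T₀ n X x χ) :
    D7Out.RingSL.Hyp K q cs h (T₀.map K.subtype) (fun i => K.subtype (n i)) (img X) V t where
  D := dat D
  Kt _ hk := (D7Out.Front.Kt E hk).symm
  tab := tab D Co
  Y := yData D E C
  Dl := C.dbl

/-- `T` normalises `⟨V a : (a, ρ) ≥ 1⟩` -/
theorem T_DD [Finite G] [Finite W] (D : Datum ⊤ q cs h T₀ n X) (H : D7Out.RingSL.Hyp K q cs h (T₀.map K.subtype)
    (fun i => K.subtype (n i)) (img X) V t) (Fr : FrameB.Fra t K T (Bf A) {x | IsRoot cs h x} hth (img X) V ρ) :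
    ∀ g ∈ T, ∀ y ∈ H.DD ρ, g * y * g⁻¹ ∈ H.DD ρ := by
  have hR := roots cs h D.h4 D.h6
  -- `U` normalises `D`
  have hU : SL.Bridge.pos hth {x | IsRoot cs h x} (img X) ≤ Subgroup.normalizer (H.DD ρ : Set G) := by
    refine iSup₂_le fun b hb y hy => ?_
    have key : ∀ y ∈ img X b, ∀ w ∈ H.DD ρ, y * w * y⁻¹ ∈ H.DD ρ := by
      intro y hy
      have h1 : H.DD ρ ≤ (H.DD ρ).comap (MulAut.conj y).toMonoidHom := by
        refine RGD.Sup_le fun a ha v hv => ?_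
        show y * v * y⁻¹ ∈ H.DD ρ
        have hyV := Fr.can.dbl.XW b hb.1 hy
        have ha1 : IsRoot cs h a := ha.1
        have ha2 : 1 ≤ Bf A a ρ := ha.2
        rcases lt_or_ge (Bf A b a) 0 with h2 | h2
        · have h3 : Bf A b a ≠ -2 := by
            intro h3
            have h4 := hR.eq_neg hb.1 ha1 h3
            have h5 := Fr.rad ha1 ha2
            have h6 := hb.2
            rw [h4, map_neg] at h6
            omega
          have h4 := hR.ge hb.1 ha1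
          have h5 : Bf A b a = -1 := by omega
          have h6 := Fr.can.dbl.neg b hb.1 a ha1 h5 y hyV v hv
          have h7 : IsRoot cs h (b + a) := hR.add b hb.1 a ha1 h5
          have h8 := Fr.dom b hb.1 hb.2
          have h9 : 1 ≤ Bf A (b + a) ρ := by rw [hR.add_left]; omega
          have h10 := mul_mem (H.V_le_DD h7 h9 h6) (H.V_le_DD ha1 ha2 hv)
          rwa [inv_mul_cancel_right] at h10
        · rw [Fr.can.dbl.pos b hb.1 a ha1 h2 y hyV v hv, mul_inv_cancel_right]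
          exact H.V_le_DD ha1 ha2 hv
      exact fun w hw => h1 hw
    rw [Subgroup.mem_normalizer_iff]
    intro w
    refine ⟨key y hy w, fun hw => ?_⟩
    have h1 := key y⁻¹ (inv_mem hy) _ hw
    have e : y⁻¹ * (y * w * y⁻¹) * y⁻¹⁻¹ = w := by group
    rwa [e] at h1
  intro g hg y hy
  obtain ⟨u, hu, σ, hσ1, hσ2, hσ3, hσ4⟩ := Fr.frame g hg
  have hσρ := Fr.frame_ρ hg hu hσ1 hσ4
  have h1 := H.DD_conj (r := ρ) (g := u * g) (fun a ha ha1 => by
    refine ⟨σ a, (hσ1 a).2 ha, ?_, fun v hv => Fr.frame_V hg hu hσ1 hσ2 hσ4 ha hv⟩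
    have h2 := hσ2 a ha ρ Fr.ρΦ
    rw [hσρ] at h2
    rw [h2]; exact ha1) y hy
  have h2 := (Subgroup.mem_normalizer_iff.1 (hU (inv_mem hu)) _).1 h1
  have e : u⁻¹ * (u * g * y * (u * g)⁻¹) * u⁻¹⁻¹ = g * y * g⁻¹ := by group
  rwa [e] at h2

/-- **The end for simply laced `K`**: the output `O` of the front, the doubled root groups `Db` and (K1) for `C(t)`. -/
theorem false_of [Finite G] [Finite W] [Finite F] [CharP F 2] (hG : commutator G = ⊤) (hK : IsSimpleGroup ↥K)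
    {e : (I → ℤ) → F → ↥K} {v m z : G} {g : ↥T →* Equiv.Perm I × (F ≃+* F)}
    (D : Datum (⊤ : Subgroup ↥K) q cs h T₀ n X) (Sy : Sys D.rgd e) (hM : D7Out.Outer.DiagTwo M)
    (O : D7Out.FrontSL.Out cs h T₀ X e t v ρ T g m z) (hP : D7Out.FrontSL.HasP cs h X)
    (perf : ∀ P : Subgroup G, ⁅P, P⁆ = P → (∀ x ∈ P, x * t = t * x) → P ≤ K)
    (Db : SL.Defs.Dbl t (Bf A) {x | IsRoot cs h x} (fun r => (X r).map K.subtype) V)
    (K1 : ∀ r ∈ {x | IsRoot cs h x}, ∀ c, c * t = t * c →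
      (∀ a ∈ {x | IsRoot cs h x}, 1 ≤ Bf A a r → ∀ x ∈ (X a).map K.subtype, c * x = x * c) →
      c ∈ (X r).map K.subtype ∨ t * c ∈ (X r).map K.subtype) : False := by
  have hI : Nonempty I := Fintype.card_pos_iff.1 (by have := D.three; omega)
  obtain rfl : v = t := by
    rcases O.R2 v (Subgroup.mem_zpowers v) with h1 | h1
    · exfalso
      have h2 := O.fr.tR
      rw [h1, Subgroup.zpowers_one_eq_bot, Subgroup.mem_bot] at h2
      exact O.fr.t1 h2
    · exact h1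
  have E := O.fr.toFr
  have C := canOf D E Db K1
  have Co := coords Sy D.gen
  have hρ := O.root
  have Fr := fra D E C rfl hρ O.dom g O.gTau
  have H := hyp D E C Co
  have simp : ∀ L ≤ K, (∀ k ∈ K, ∀ l ∈ L, k * l * k⁻¹ ∈ L) → L = ⊥ ∨ L = K := by
    intro L hL hn
    have hN : (L.subgroupOf K).Normal := by
      refine ⟨fun l hl k => ?_⟩
      rw [Subgroup.mem_subgroupOf] at hl ⊢
      exact hn k k.2 l hl
    rcases hN.eq_bot_or_eq_top with h1 | h1
    · left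
      rw [Subgroup.subgroupOf_eq_bot, disjoint_iff, inf_of_le_left hL] at h1
      exact h1
    · right
      rw [Subgroup.subgroupOf_eq_top] at h1
      exact le_antisymm hL h1
  have P2 : ∃ P ≤ K, ⁅P, P⁆ = P ∧ img X ρ ≤ P ∧ ∀ x ∈ P, ∀ p ∈ img X ρ, x * p = p * x := by
    obtain ⟨L, hL1, hL2, hL3⟩ := hP ρ hρ
    refine ⟨L.map K.subtype, Subgroup.map_subtype_le _, by rw [← Subgroup.map_commutator, hL1],
      Subgroup.map_mono hL2, ?_⟩
    rintro _ ⟨y, hy, rfl⟩ _ ⟨x, hx, rfl⟩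
    exact congrArg Subtype.val (hL3 y hy x hx)
  rcases H.dichotomy hρ O.zX O.z1 E.vT (T_DD D H Fr) (fun g hg v hv => Fr.T_V hg hv) O.zT with
    ⟨A', hA⟩ | ⟨B, _, θ, hθ, -, hθ2⟩
  · exact false_A hG D E C hρ simp perf hA.le hA.inf hA.card hA.nrm hA.br
  · exact false_B hG D hM E C rfl hρ O.dom Co g (fun y => ⟨O.gTau y, O.gker y⟩) perf P2 θ hθ hθ2

end Cfsg.Agent.OddHalf.D7End.Main
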