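import Cfsg.Agent.OddHalf.SL.Bridge
import Cfsg.Agent.OddHalf.D7End.Canon

/-!
# The group `U*` (helper163, bb ODD 9501)

`U* = ⟨V r : r > 0⟩` is a 2-group, `C_{U*}(t) = U = ⟨X r : r > 0⟩`, all involutions of `t U*` are conjugate to `t`
under `U*`. `exists_ext` : a homomorphism of `T` to an abelian group which is trivial on `N ∩ T` extends to `N T`,
trivial on `N`.
-/

set_option autoImplicit false
set_option linter.unusedSectionVars false

namespace Cfsg.Agent.OddHalf.D7End.Ustar

open Subgroup Cfsg.Agent.Doubling Cfsg.Agent.Doubling.Growth Cfsg.Agent.OddHalf.SL Cfsg.Agent.OddHalf.SL.Bridge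

variable {G : Type*} [Group G] {L : Type*} [AddCommGroup L]

/-- The positive doubled root groups in decreasing order of heights. -/
theorem exists_growth {t : G} {B : L → L → ℤ} {Φ : Set L} {X V : L → Subgroup G} (hR : Defs.Roots B Φ)
    (D : Defs.Dbl t B Φ X V) (ht : L →+ ℤ)
    (dir : ∀ a ∈ Φ, 0 < ht a → X a ⊓ (⨆ b : L, ⨆ _ : b ∈ Φ ∧ ht a ≤ ht b ∧ b ≠ a, X b) = ⊥) :
    ∃ (l : ℕ → L) (n : ℕ), Growth.Dbl t (fun i => V (l i)) (fun i => X (l i)) n ∧
      Growth.W (fun i => X (l i)) n = pos ht Φ X ∧ Growth.W (fun i => V (l i)) n = pos ht Φ V := by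
  classical
  set P : Finset L := hR.fin.toFinset.filter (fun a => 0 < ht a) with hP
  have hmemP : ∀ a, a ∈ P ↔ a ∈ Φ ∧ 0 < ht a := fun a => by
    rw [hP, Finset.mem_filter, Set.Finite.mem_toFinset]
  obtain ⟨l, hl1, hl2, hl3, hl4⟩ := exists_enum (fun a => ht a) P
  have hΦ : ∀ i < P.card, l i ∈ Φ := fun i hi => ((hmemP _).1 (hl1 i hi)).1
  have hht : ∀ i < P.card, 0 < ht (l i) := fun i hi => ((hmemP _).1 (hl1 i hi)).2
  have key : ∀ Y : L → Subgroup G, Growth.W (fun i => Y (l i)) P.card = pos ht Φ Y := by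
    intro Y
    apply le_antisymm
    · exact iSup₂_le fun i hi => le_pos (hΦ i hi) (hht i hi)
    · refine iSup₂_le fun a ha => ?_
      obtain ⟨i, hi, rfl⟩ := hl2 a ((hmemP a).2 ha)
      exact le_W (fun i => Y (l i)) hi
  refine ⟨l, P.card, ?_, key X, key V⟩
  exact
    { tt := D.tt
      conj := fun i hi v hv => D.conj_t _ (hΦ i hi) v hv
      sq := fun i hi v hv => D.sq _ (hΦ i hi) v hv
      fix := fun i hi v hv h => by
        refine (D.cent _ (hΦ i hi) v hv).1 ?_
        calc t * v = t * v * (t * t) := by rw [D.tt, mul_one]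
          _ = (t * v * t) * t := by group
          _ = v * t := by rw [h]
      X_le := fun i hi => D.XW _ (hΦ i hi)
      X_fix := fun i hi v hv => by
        have h := (D.cent _ (hΦ i hi) v (D.XW _ (hΦ i hi) hv)).2 hv
        rw [h, mul_assoc, D.tt, mul_one]
      free := fun i hi v hv => by
        obtain ⟨w, hw, h⟩ := D.surj _ (hΦ i hi) v hv
        have hww := D.sq _ (hΦ i hi) w hw
        have hwi : w⁻¹ = w := inv_eq_of_mul_eq_one_left hww
        have htw := D.conj_t _ (hΦ i hi) w hw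
        have htt2 := D.sq _ (hΦ i hi) _ htw
        refine ⟨w, hw, ?_⟩
        have hvv := D.sq _ (hΦ i hi) v (D.XW _ (hΦ i hi) hv)
        have hvi : v⁻¹ = v := inv_eq_of_mul_eq_one_left hvv
        have hti : (t * w * t)⁻¹ = t * w * t := inv_eq_of_mul_eq_one_left htt2
        calc v = v⁻¹ := hvi.symm
          _ = (w⁻¹ * (t * w * t))⁻¹ := by rw [h]
          _ = (t * w * t)⁻¹ * w := by group
          _ = (t * w * t) * w := by rw [hti]
          _ = t * w * t * w⁻¹ := by rw [hwi]
      comm := fun i j hij hj v hv w hw => by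
        have hi := hij.trans hj
        rcases lt_or_ge (B (l i) (l j)) 0 with hB | hB
        · have hB2 : B (l i) (l j) = -1 := by
            have h1 := hR.ge (hΦ i hi) (hΦ j hj)
            have h2 : B (l i) (l j) ≠ -2 := by
              intro h3
              have h4 := hR.eq_neg (hΦ i hi) (hΦ j hj) h3
              have h5 := hht i hi
              rw [h4, map_neg] at h5
              have h6 := hht j hj
              omega
            omega
          have hmem := D.neg _ (hΦ i hi) _ (hΦ j hj) hB2 v hv w hw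
          have hs : l i + l j ∈ P := (hmemP _).2 ⟨hR.add _ (hΦ i hi) _ (hΦ j hj) hB2, by
            rw [map_add]; have := hht i hi; have := hht j hj; omega⟩
          obtain ⟨k, hk, hkl⟩ := hl2 _ hs
          have hki : k < i := by
            by_contra hc
            have h1 : ht (l k) ≤ ht (l i) := hl4 i k (not_lt.1 hc) hk
            rw [hkl, map_add] at h1
            have := hht j hj
            omega
          rw [← hkl] at hmem
          exact le_W (fun i => V (l i)) hki hmem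
        · have h := D.pos _ (hΦ i hi) _ (hΦ j hj) hB v hv w hw
          have h1 : v * w * v⁻¹ * w⁻¹ = 1 := by rw [h]; group
          rw [h1]; exact one_mem _
      indep := fun k hk => by
        rw [eq_bot_iff]
        refine le_trans (inf_le_inf_left _ ?_) (dir _ (hΦ k hk) (hht k hk)).le
        refine iSup₂_le fun i hi => ?_
        refine le_iSup₂_of_le (f := fun b (_ : b ∈ Φ ∧ ht (l k) ≤ ht b ∧ b ≠ l k) => X b) (l i)
          ⟨hΦ i (hi.trans hk), ?_, ?_⟩ le_rfl
        · exact hl4 i k hi.le hk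
        · intro h
          exact absurd (hl3 i k (hi.trans hk) hk h) hi.ne }

theorem isPGroup_W {t : G} {V X : ℕ → Subgroup G} {n : ℕ} (h : Growth.Dbl t V X n) (k : ℕ) (hk : k ≤ n) :
    IsPGroup 2 (Growth.W V k) := by
  induction k with
  | zero =>
    rw [W_zero]
    exact IsPGroup.of_bot
  | succ k ih =>
    rw [W_succ]
    have hk' : k < n := hk
    have h1 : IsPGroup 2 (V k) := by
      rintro ⟨v, hv⟩
      exact ⟨1, Subtype.ext (by
        show v ^ 2 ^ 1 = 1
        rw [pow_one, pow_two]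
        exact h.sq k hk' v hv)⟩
    have h2 : V k ≤ normalizer (Growth.W V k : Set G) := by
      intro v hv
      rw [mem_normalizer_iff]
      intro w
      constructor
      · intro hw
        exact h.normal le_rfl hk' hv hw
      · intro hw
        have h3 := h.normal le_rfl hk' (inv_mem hv) hw
        have e : v⁻¹ * (v * w * v⁻¹) * v⁻¹⁻¹ = w := by group
        rwa [e] at h3
    rw [sup_comm]
    exact h1.to_sup_of_normal_right' (ih hk'.le) h2

/-- the properties of `U*` -/
theorem main {t : G} {B : L → L → ℤ} {Φ : Set L} {X V : L → Subgroup G} (hR : Defs.Roots B Φ)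
    (D : Defs.Dbl t B Φ X V) (ht : L →+ ℤ)
    (dir : ∀ a ∈ Φ, 0 < ht a → X a ⊓ (⨆ b : L, ⨆ _ : b ∈ Φ ∧ ht a ≤ ht b ∧ b ≠ a, X b) = ⊥) :
    IsPGroup 2 (pos ht Φ V) ∧ (∀ w ∈ pos ht Φ V, t * w * t = w → w ∈ pos ht Φ X) ∧
      ∀ w ∈ pos ht Φ V, (t * w) * (t * w) = 1 → ∃ c ∈ pos ht Φ V, t * w = c * t * c⁻¹ := by
  obtain ⟨l, n, h, hX, hV⟩ := exists_growth hR D ht dir
  rw [← hX, ← hV]
  exact ⟨isPGroup_W h n le_rfl, fun w hw h1 => (h.mem_U_iff le_rfl).2 ⟨hw, h1⟩, fun w hw h1 => h.exists_conj hw h1⟩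

/-- extension of a homomorphism from `T` to `N T` -/
theorem exists_ext {N T : Subgroup G} (hT : T ≤ normalizer (N : Set G)) {A : Type*} [CommGroup A] (θ : T →* A)
    (h : ∀ x (hx : x ∈ T), x ∈ N → θ ⟨x, hx⟩ = 1) :
    ∃ θ' : ↥(N ⊔ T) →* A, (∀ x (hx : x ∈ N), θ' ⟨x, mem_sup_left hx⟩ = 1) ∧
      ∀ x (hx : x ∈ T), θ' ⟨x, mem_sup_right hx⟩ = θ ⟨x, hx⟩ := by
  have hdec : ∀ s : ↥(N ⊔ T), ∃ x : T, ∃ n ∈ N, (s : G) = n * x := by
    rintro ⟨s, hs⟩
    have hs' : s ∈ ((N ⊔ T : Subgroup G) : Set G) := hs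
    rw [coe_mul_of_right_le_normalizer_left N T hT] at hs'
    obtain ⟨n, hn, x, hx, e⟩ := Set.mem_mul.1 hs'
    exact ⟨⟨x, hx⟩, n, hn, e.symm⟩
  choose f g hg hfg using hdec
  -- the value does not depend on the decomposition
  have key : ∀ (x y : T) (n m : G), n ∈ N → m ∈ N → n * x = m * y → θ x = θ y := by
    intro x y n m hn hm e
    have h1 : (x * y⁻¹ : T) = (x * y⁻¹ : T) := rfl
    have h2 : ((x * y⁻¹ : T) : G) ∈ N := by
      have : ((x * y⁻¹ : T) : G) = n⁻¹ * m := by
        show (x : G) * (y : G)⁻¹ = n⁻¹ * m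
        rw [mul_inv_eq_iff_eq_mul, mul_assoc, ← e, inv_mul_cancel_left]
      rw [this]
      exact mul_mem (inv_mem hn) hm
    have h3 := h _ (x * y⁻¹ : T).2 h2
    have h4 : θ (x * y⁻¹) = 1 := h3
    rw [map_mul, map_inv] at h4
    exact mul_inv_eq_one.1 h4
  refine ⟨MonoidHom.mk' (fun s => θ (f s)) ?_, ?_, ?_⟩
  · intro a b
    rw [← map_mul]
    have ha := hfg a
    have hb := hfg b
    have hab := hfg (a * b)
    refine key _ _ (g (a * b)) (g a * ((f a : G) * g b * (f a : G)⁻¹)) (hg _)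
      (mul_mem (hg _) ((mem_normalizer_iff.1 (hT (f a).2) (g b)).1 (hg _))) ?_
    rw [← hab]
    show (a : G) * (b : G) = _
    rw [ha, hb]
    show g a * (f a : G) * (g b * f b) = g a * ((f a : G) * g b * (f a : G)⁻¹) * ((f a : G) * f b)
    group
  · intro x hx
    show θ (f ⟨x, mem_sup_left hx⟩) = 1
    have h1 := hfg ⟨x, mem_sup_left hx⟩
    rw [← map_one θ]
    refine key _ _ _ x (hg _) hx (h1.symm.trans ?_)
    show x = x * ((1 : T) : G)
    rw [OneMemClass.coe_one, mul_one]
  · intro x hx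
    show θ (f ⟨x, mem_sup_right hx⟩) = θ ⟨x, hx⟩
    have h1 := hfg ⟨x, mem_sup_right hx⟩
    refine key _ _ _ 1 (hg _) (one_mem N) (h1.symm.trans ?_)
    show x = 1 * x
    rw [one_mul]

end Cfsg.Agent.OddHalf.D7End.Ustar
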